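import Groth.Agent.ContrCritLib.Pinch
import Groth.Agent.RelSpecLib.Cone
import Groth.Agent.RelProjLib.RLocPow
import Groth.Prelude.Def_RelSpec2

/-!
# Functions on a line bundle

Sections of powers as functions on `V(L)`, their loci, and Taylor coefficients along the zero section.
-/

set_option autoImplicit false
set_option linter.style.haveILetI false
set_option linter.unusedSectionVars false
set_option backward.isDefEq.respectTransparency false

universe u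

open CategoryTheory CategoryTheory.Limits AlgebraicGeometry TopologicalSpace Opposite
open Groth.Agent.RelSpecLib Groth.Agent.RelProjLib Groth.Agent.ParaFLib
open scoped HomogeneousIdeal

noncomputable section

namespace Groth.Agent.ContrCritLib

variable {X : Scheme.{u}} {L : X.Modules} [Coh.IsQCoh L] {𝒮 : RelProj.QCGrAlg X} {jL : L ⟶ 𝒮.toModule}
  (hj : RelProj.IsGrSymAlg L 𝒮 jL)
  {aug : 𝒮.toQCAlg ⟶ RelSpec.QCAlg.unit X} (h0 : RelCone.StrZeroBij 𝒮) (haug : RelCone.IsAugmentation 𝒮 aug)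
  {j0 : X ⟶ 𝒮.toQCAlg.spec} (hj0 : RelCone.IsVertex 𝒮 aug j0)

include hj0 in
theorem algMap_j0 : algMap 𝒮.toQCAlg (𝟙 X) j0 hj0.comp_π = aug.hom := by
  have hω : 𝒮.toQCAlg.str ≫ aug.hom = (𝟙 X : X ⟶ X).c := aug.comm
  have h : lift 𝒮.toQCAlg (𝟙 X) aug.hom = j0 := by
    refine RelSpecLib.hom_ext (𝟙 X) fun U hU => ?_
    rw [ι_lift 𝒮.toQCAlg (𝟙 X) aug.hom U hU]
    show U.toSpecΓ ≫ Spec.map (aug.hom.app (op U)) ≫ 𝒮.toQCAlg.ι U hU = U.ι ≫ j0
    rw [← hj0.chart U hU, hU.toSpecΓ_fromSpec_assoc]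
  subst h
  exact algMap_lift 𝒮.toQCAlg (𝟙 X) aug.hom hω

/-- An element of the algebra as a function on the spectrum. -/
def toFn {O : X.Opens} (a : 𝒮.presheaf.obj (op O)) : Γ(𝒮.toQCAlg.spec, 𝒮.toQCAlg.π ⁻¹ᵁ O) :=
  (algMap 𝒮.toQCAlg 𝒮.toQCAlg.π (𝟙 _) (Category.id_comp _)).app (op O) a

include hj0 in
theorem j0_toFn {O : X.Opens} (a : 𝒮.presheaf.obj (op O))
    (h : O ≤ j0 ⁻¹ᵁ (𝒮.toQCAlg.π ⁻¹ᵁ O)) : j0.appLE _ O h (toFn a) = (aug.hom.app (op O)).hom a := by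
  have h1 := algMap_comp 𝒮.toQCAlg 𝒮.toQCAlg.π (𝟙 X) (𝟙 _) (Category.id_comp _) j0 hj0.comp_π
  simp only [Category.comp_id] at h1
  rw [algMap_j0 hj0] at h1
  rw [h1]
  show _ = ((AffAlg.algHom 𝒮.toQCAlg.π (𝟙 X) j0 hj0.comp_π).app (op O)) (toFn a)
  rw [algHom_app_gen]
  rfl

theorem toFn_res {O O' : X.Opens} (hle : O' ≤ O) (a : 𝒮.presheaf.obj (op O)) :
    𝒮.toQCAlg.spec.presheaf.map (homOfLE (𝒮.toQCAlg.π.preimage_mono hle)).op (toFn a) = toFn (rz a O' hle) :=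
  (ConcreteCategory.congr_hom
    ((algMap 𝒮.toQCAlg 𝒮.toQCAlg.π (𝟙 _) (Category.id_comp _)).naturality (homOfLE hle).op) a).symm

theorem gammaAff_toFn {W : X.Opens} (hW : IsAffineOpen W) (a : 𝒮.presheaf.obj (op W)) :
    𝒮.toQCAlg.gammaAff W hW (toFn a) = a := by
  have h := ConcreteCategory.congr_hom (NatTrans.congr_app (algMap_id 𝒮.toQCAlg) (op W)) a
  rw [NatTrans.comp_app, 𝒮.toQCAlg.gammaMap_app W hW] at h
  exact h

theorem ι_preimage_basicOpen {W : X.Opens} (hW : IsAffineOpen W)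
    (x : Γ(𝒮.toQCAlg.spec, 𝒮.toQCAlg.π ⁻¹ᵁ W)) :
    𝒮.toQCAlg.ι W hW ⁻¹ᵁ 𝒮.toQCAlg.spec.basicOpen x = PrimeSpectrum.basicOpen (𝒮.toQCAlg.gammaAff W hW x) := by
  rw [preimage_basicOpen' _ (𝒮.toQCAlg.top_le_preimage W hW) le_top x, basicOpen_eq_of_affine']
  rfl

theorem π_ι_mem {W : X.Opens} (hW : IsAffineOpen W) (P : Spec (𝒮.presheaf.obj (op W))) :
    𝒮.toQCAlg.π (𝒮.toQCAlg.ι W hW P) ∈ W := by
  have : 𝒮.toQCAlg.ι W hW P ∈ 𝒮.toQCAlg.π ⁻¹ᵁ W := by
    rw [𝒮.toQCAlg.π_preimage W hW]; exact ⟨P, rfl⟩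
  exact this

theorem exists_ι_eq {W : X.Opens} (hW : IsAffineOpen W) {v : 𝒮.toQCAlg.spec} (hv : 𝒮.toQCAlg.π v ∈ W) :
    ∃ P, 𝒮.toQCAlg.ι W hW P = v := by
  have : v ∈ (𝒮.toQCAlg.ι W hW).opensRange := by
    rw [← 𝒮.toQCAlg.π_preimage W hW]; exact hv
  exact this

theorem π_ι_mem_basicOpen {W : X.Opens} (hW : IsAffineOpen W) (P : Spec (𝒮.presheaf.obj (op W))) (r : Γ(X, W)) :
    𝒮.toQCAlg.π (𝒮.toQCAlg.ι W hW P) ∈ X.basicOpen r ↔ (𝒮.str.app (op W)).hom r ∉ P.asIdeal := by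
  have h : 𝒮.toQCAlg.π (𝒮.toQCAlg.ι W hW P) = hW.fromSpec ((Spec.map (𝒮.str.app (op W))) P) :=
    congrArg (fun t : Spec (𝒮.presheaf.obj (op W)) ⟶ X => t P) (𝒮.toQCAlg.ι_π W hW)
  rw [h]
  show (Spec.map (𝒮.str.app (op W))) P ∈ hW.fromSpec ⁻¹ᵁ X.basicOpen r ↔ _
  rw [hW.fromSpec_preimage_basicOpen]
  exact Iff.rfl

theorem vertexCompl_iff {W : X.Opens} (hW : IsAffineOpen W) {e : Γ(L, W)} (he : Gen W e)
    (P : Spec (𝒮.presheaf.obj (op W))) :
    P ∈ RelCone.vertexCompl (𝒮.deg W hW) ↔ (gen₁ hW hj e).1 ∉ P.asIdeal := by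
  classical
  rw [mem_vertexCompl, not_iff_not]
  refine ⟨fun h => h (HomogeneousIdeal.mem_irrelevant_of_mem _ Nat.one_pos (gen₁ hW hj e).2), fun h a ha => ?_⟩
  rw [← DirectSum.sum_support_decompose (𝒮.deg W hW) a]
  refine Ideal.sum_mem _ fun k _ => ?_
  rcases Nat.eq_zero_or_pos k with rfl | hk
  · rw [show (DirectSum.decompose (𝒮.deg W hW) a 0 : 𝒮.presheaf.obj (op W)) = 0 from
      (HomogeneousIdeal.mem_irrelevant_iff _ a).1 ha]
    exact zero_mem _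
  · obtain ⟨r, hr, -⟩ := existsUnique_coeff hW hj he (SetLike.coe_mem (DirectSum.decompose (𝒮.deg W hW) a k))
    rw [← hr]
    exact Ideal.mul_mem_left _ _ (Ideal.pow_mem_of_mem _ h _ hk)

include h0 haug hj0 in
theorem ι_not_mem_range_iff {W : X.Opens} (hW : IsAffineOpen W) (P : Spec (𝒮.presheaf.obj (op W))) :
    𝒮.toQCAlg.ι W hW P ∉ Set.range j0.base ↔ P ∈ RelCone.vertexCompl (𝒮.deg W hW) := by
  rw [← ι_preimage_pointedCone 𝒮 W hW]
  show _ ↔ 𝒮.toQCAlg.ι W hW P ∈ (RelCone.pointedCone 𝒮 : Set 𝒮.toQCAlg.spec)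
  rw [pointedCone_eq 𝒮 aug h0 haug j0 hj0]
  exact Iff.rfl

include haug in
theorem aug_gen₁ {W : X.Opens} (hW : IsAffineOpen W) (e : Γ(L, W)) :
    (aug.hom.app (op W)).hom (gen₁ hW hj e).1 = 0 :=
  haug W hW 0 _ (gen₁ hW hj e).2

include haug in
theorem aug_homSec {O : X.Opens} {n : ℕ} (hn : 0 < n) (a : 𝒮.presheaf.obj (op O)) (ha : HomSec a n) :
    (aug.hom.app (op O)).hom a = 0 := by
  have hloc : ∀ z : O, ∃ (A : X.Opens) (_ : IsAffineOpen A), z.1 ∈ A ∧ A ≤ O := fun z => by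
    obtain ⟨A, hA, hzA, hle⟩ := exists_isAffineOpen_mem_and_subset z.2
    exact ⟨A, hA, hzA, hle⟩
  choose A hA hzA hle using hloc
  refine TopCat.Sheaf.eq_of_locally_eq' X.sheaf A O (fun z => homOfLE (hle z))
    (fun z hz => Opens.mem_iSup.2 ⟨⟨z, hz⟩, hzA _⟩) _ _ fun z => ?_
  refine Eq.trans ?_ (map_zero _).symm
  refine (ConcreteCategory.congr_hom (aug.hom.naturality (homOfLE (hle z)).op) a).symm.trans ?_
  obtain ⟨m, rfl⟩ := Nat.exists_eq_add_of_le' hn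
  exact haug (A z) (hA z) m _ (ha (A z) (hA z) (hle z))

include hj h0 haug hj0 in
/-- The locus of a positive-degree element as a function on `V(L)`. -/
theorem mem_basicOpen_toFn (hL : PicF.IsInvertible L) {O : X.Opens} {n : ℕ} (hn : 0 < n)
    (a : 𝒮.presheaf.obj (op O)) (ha : HomSec a n) (v : 𝒮.toQCAlg.spec) :
    v ∈ 𝒮.toQCAlg.spec.basicOpen (toFn a) ↔ 𝒮.toQCAlg.π v ∈ nv a n ∧ v ∉ Set.range j0.base := by
  by_cases hvO : 𝒮.toQCAlg.π v ∈ O
  swap
  · exact ⟨fun h => (hvO (𝒮.toQCAlg.spec.basicOpen_le _ h)).elim, fun h => (hvO (nv_le _ _ h.1)).elim⟩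
  obtain ⟨W, hW, e, hxW, hWO, he⟩ := exists_triv _ hL hvO
  obtain ⟨r, hr, -⟩ := existsUnique_coeff hW hj he (ha W hW hWO)
  obtain ⟨P, hP⟩ := exists_ι_eq hW hxW
  subst hP
  rw [ι_not_mem_range_iff h0 haug hj0 hW, vertexCompl_iff hj hW he, mem_nv_iff a n hj hW hWO he hr hxW,
    π_ι_mem_basicOpen hW]
  have h1 : 𝒮.toQCAlg.ι W hW P ∈ 𝒮.toQCAlg.spec.basicOpen (toFn a) ↔
      𝒮.toQCAlg.ι W hW P ∈ 𝒮.toQCAlg.spec.basicOpen
        (𝒮.toQCAlg.spec.presheaf.map (homOfLE (𝒮.toQCAlg.π.preimage_mono hWO)).op (toFn a)) := by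
    rw [Scheme.basicOpen_res]
    exact ⟨fun h => ⟨hxW, h⟩, fun h => h.2⟩
  rw [h1, toFn_res]
  show P ∈ 𝒮.toQCAlg.ι W hW ⁻¹ᵁ 𝒮.toQCAlg.spec.basicOpen (toFn (rz a W hWO)) ↔ _
  rw [ι_preimage_basicOpen, gammaAff_toFn, ← hr]
  show _ ∉ P.asIdeal ↔ _
  rw [← not_or, not_iff_not, P.isPrime.mul_mem_iff_mem_or_mem, P.isPrime.pow_mem_iff_mem n hn]

include hj h0 haug hj0 in
theorem isAffineOpen_basicOpen_toFn (hL : PicF.IsInvertible L) {O : X.Opens} {n : ℕ} (hn : 0 < n)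
    (a : 𝒮.presheaf.obj (op O)) (ha : HomSec a n) (hnv : IsAffineOpen (nv a n)) :
    IsAffineOpen (𝒮.toQCAlg.spec.basicOpen (toFn a)) := by
  have hle : 𝒮.toQCAlg.spec.basicOpen (toFn a) ≤ 𝒮.toQCAlg.π ⁻¹ᵁ nv a n := fun v hv =>
    ((mem_basicOpen_toFn hj h0 haug hj0 hL hn a ha v).1 hv).1
  have h := (hnv.preimage 𝒮.toQCAlg.π).basicOpen
    (𝒮.toQCAlg.spec.presheaf.map (homOfLE (𝒮.toQCAlg.π.preimage_mono (nv_le a n))).op (toFn a))
  rwa [Scheme.basicOpen_res, inf_eq_right.2 hle] at h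

/-! ### Taylor coefficients -/

section taylor

theorem mem_span_homogeneous {A : Type u} [CommRing A] (𝒜 : ℕ → AddSubgroup A) [GradedRing 𝒜] (m : ℕ)
    {a : A} (ha : a ∈ (HomogeneousIdeal.irrelevant 𝒜).toIdeal ^ m) :
    a ∈ Ideal.span {s : A | ∃ i, m ≤ i ∧ s ∈ 𝒜 i} := by
  classical
  induction m generalizing a with
  | zero =>
    rw [(Ideal.eq_top_iff_one (Ideal.span {s : A | ∃ i, 0 ≤ i ∧ s ∈ 𝒜 i})).2
      (Ideal.subset_span ⟨0, le_rfl, SetLike.one_mem_graded 𝒜⟩)]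
    trivial
  | succ m ih =>
    rw [pow_succ] at ha
    refine Submodule.mul_induction_on ha (fun x hx y hy => ?_) fun x y hx hy => add_mem hx hy
    rw [← DirectSum.sum_support_decompose 𝒜 y, Finset.mul_sum]
    refine sum_mem fun k _ => ?_
    rcases Nat.eq_zero_or_pos k with rfl | hk
    · rw [show (DirectSum.decompose 𝒜 y 0 : A) = 0 from (HomogeneousIdeal.mem_irrelevant_iff _ y).1 hy, mul_zero]
      exact zero_mem _
    · refine Submodule.span_induction (fun s hs => ?_) (by simp) (fun p q _ _ hp hq => ?_)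
        (fun c p _ hp => ?_) (ih hx)
      · obtain ⟨i, hi, hs⟩ := hs
        exact Ideal.subset_span ⟨i + k, by omega, SetLike.mul_mem_graded hs (SetLike.coe_mem _)⟩
      · rw [add_mul]; exact add_mem hp hq
      · rw [smul_eq_mul, mul_assoc]; exact Ideal.mul_mem_left _ _ hp

theorem decompose_eq_zero_of_mem_pow {A : Type u} [CommRing A] (𝒜 : ℕ → AddSubgroup A) [GradedRing 𝒜] {m n : ℕ}
    (hn : n < m) {a : A} (ha : a ∈ (HomogeneousIdeal.irrelevant 𝒜).toIdeal ^ m) :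
    (DirectSum.decompose 𝒜 a n : A) = 0 := by
  classical
  refine Submodule.span_induction (fun s hs => ?_) (by simp) (fun p q _ _ hp hq => ?_) (fun c p hp' hp => ?_)
    (mem_span_homogeneous 𝒜 m ha) |> fun h => h
  · obtain ⟨i, hi, hs⟩ := hs
    exact DirectSum.decompose_of_mem_ne 𝒜 hs (by omega)
  · rw [DirectSum.decompose_add, DirectSum.add_apply, AddSubgroup.coe_add, hp, hq, add_zero]
  · clear hp
    refine Submodule.span_induction (fun s hs => ?_) (fun c => by simp) (fun p q _ _ hp hq => fun c => ?_)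
      (fun d p _ hp => fun c => ?_) hp' c
    · intro c
      obtain ⟨i, hi, hs⟩ := hs
      rw [smul_eq_mul]
      exact DirectSum.coe_decompose_mul_of_right_mem_of_not_le 𝒜 hs (by omega)
    · rw [smul_add, DirectSum.decompose_add, DirectSum.add_apply, AddSubgroup.coe_add, hp, hq, add_zero]
    · rw [smul_smul]; exact hp _

end taylor

/-- The value of a section along a morphism from an affine scheme. -/
def evalAt {R : CommRingCat.{u}} {T : Scheme.{u}} (μ : Spec R ⟶ T) (G : T.Opens) (e : ⊤ ≤ μ ⁻¹ᵁ G) (Ψ : Γ(T, G)) :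
    R :=
  (Scheme.ΓSpecIso R).hom (μ.appLE G ⊤ e Ψ)

theorem evalAt_congr {R : CommRingCat.{u}} {T : Scheme.{u}} {μ μ' : Spec R ⟶ T} (h : μ = μ') (G : T.Opens)
    (e : ⊤ ≤ μ ⁻¹ᵁ G) (e' : ⊤ ≤ μ' ⁻¹ᵁ G) (Ψ : Γ(T, G)) : evalAt μ G e Ψ = evalAt μ' G e' Ψ := by
  subst h; rfl

theorem evalAt_comp {R R' : CommRingCat.{u}} {T : Scheme.{u}} (χ : R ⟶ R') (μ : Spec R ⟶ T) (G : T.Opens)
    (e : ⊤ ≤ μ ⁻¹ᵁ G) (e' : ⊤ ≤ (Spec.map χ ≫ μ) ⁻¹ᵁ G) (Ψ : Γ(T, G)) :
    evalAt (Spec.map χ ≫ μ) G e' Ψ = χ (evalAt μ G e Ψ) := by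
  rw [evalAt, evalAt, ← Scheme.Hom.appLE_comp_appLE (Spec.map χ) μ G ⊤ ⊤ e le_top]
  exact ConcreteCategory.congr_hom (Scheme.ΓSpecIso_naturality χ) _

theorem preimage_basicOpen_evalAt {R : CommRingCat.{u}} {T : Scheme.{u}} (μ : Spec R ⟶ T) (G : T.Opens)
    (e : ⊤ ≤ μ ⁻¹ᵁ G) (Ψ : Γ(T, G)) : μ ⁻¹ᵁ T.basicOpen Ψ = PrimeSpectrum.basicOpen (evalAt μ G e Ψ) := by
  rw [preimage_basicOpen' μ e le_top Ψ, basicOpen_eq_of_affine']
  rfl

section chart

variable {W : X.Opens} (hW : IsAffineOpen W) {e : Γ(L, W)} (he : Gen W e) {z : X} (hz : z ∈ W)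

/-- The arc through the zero section over a point, in the coordinate of a generator. -/
def arc : 𝒮.presheaf.obj (op W) →+* PowerSeries (X.residueField z) :=
  (Polynomial.eval₂RingHom (PowerSeries.C.comp (X.evaluation W z hz).hom) PowerSeries.X).comp
    (RingEquiv.ofBijective _ (bijective_eval₂ hW hj he)).symm.toRingHom

theorem arc_eval (q : Polynomial Γ(X, W)) :
    arc hj hW he hz (Polynomial.eval₂RingHom (𝒮.str.app (op W)).hom (jsec 𝒮.toQCAlg jL e) q) =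
      Polynomial.eval₂ (PowerSeries.C.comp (X.evaluation W z hz).hom) PowerSeries.X q := by
  show Polynomial.eval₂RingHom _ _ ((RingEquiv.ofBijective _ (bijective_eval₂ hW hj he)).symm _) = _
  rw [← RingEquiv.ofBijective_apply (Polynomial.eval₂RingHom (𝒮.str.app (op W)).hom (jsec 𝒮.toQCAlg jL e))
    (bijective_eval₂ hW hj he) q, RingEquiv.symm_apply_apply]
  rfl

theorem arc_str (r : Γ(X, W)) :
    arc hj hW he hz ((𝒮.str.app (op W)).hom r) = PowerSeries.C (X.evaluation W z hz r) := by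
  have := arc_eval hj hW he hz (Polynomial.C r)
  simpa using this

theorem arc_gen : arc hj hW he hz (gen₁ hW hj e).1 = PowerSeries.X := by
  have := arc_eval hj hW he hz Polynomial.X
  rw [Polynomial.coe_eval₂RingHom, Polynomial.eval₂_X, Polynomial.eval₂_X] at this
  exact this

include haug in
theorem constantCoeff_arc (a : 𝒮.presheaf.obj (op W)) :
    PowerSeries.constantCoeff (arc hj hW he hz a) = X.evaluation W z hz ((aug.hom.app (op W)).hom a) := by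
  obtain ⟨q, rfl⟩ := (bijective_eval₂ hW hj he).2 a
  rw [arc_eval]
  have h := Polynomial.ringHom_ext
    (f := (PowerSeries.constantCoeff (R := X.residueField z)).comp
      (Polynomial.eval₂RingHom (PowerSeries.C.comp (X.evaluation W z hz).hom) PowerSeries.X))
    (g := ((X.evaluation W z hz).hom.comp (aug.hom.app (op W)).hom).comp
      (Polynomial.eval₂RingHom (𝒮.str.app (op W)).hom (jsec 𝒮.toQCAlg jL e)))
    (fun r => by
      simp only [RingHom.comp_apply, Polynomial.coe_eval₂RingHom, Polynomial.eval₂_C, PowerSeries.constantCoeff_C]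
      exact congrArg (X.evaluation W z hz).hom (aug_str 𝒮 aug W r).symm)
    (by
      simp only [RingHom.comp_apply, Polynomial.coe_eval₂RingHom, Polynomial.eval₂_X, PowerSeries.constantCoeff_X]
      exact (map_zero _).symm.trans (congrArg (X.evaluation W z hz).hom (aug_gen₁ hj haug hW e).symm))
  exact RingHom.congr_fun h q

include haug in
theorem arc_irrelevant {a : 𝒮.presheaf.obj (op W)} (ha : a ∈ (HomogeneousIdeal.irrelevant (𝒮.deg W hW)).toIdeal) :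
    arc hj hW he hz a ∈ Ideal.span {(PowerSeries.X : PowerSeries (X.residueField z))} := by
  classical
  rw [Ideal.mem_span_singleton, PowerSeries.X_dvd_iff, constantCoeff_arc hj haug hW he hz]
  have h0 : (aug.hom.app (op W)).hom a = 0 := by
    rw [← DirectSum.sum_support_decompose (𝒮.deg W hW) a, map_sum]
    refine Finset.sum_eq_zero fun k _ => ?_
    rcases k with _ | k
    · rw [show (DirectSum.decompose (𝒮.deg W hW) a 0 : 𝒮.presheaf.obj (op W)) = 0 from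
        (HomogeneousIdeal.mem_irrelevant_iff _ a).1 ha, map_zero]
    · exact haug W hW k _ (SetLike.coe_mem _)
  rw [h0, map_zero]

theorem coeff_arc (a : 𝒮.presheaf.obj (op W)) (n : ℕ) {r : Γ(X, W)}
    (hr : (𝒮.str.app (op W)).hom r * (gen₁ hW hj e).1 ^ n = (DirectSum.decompose (𝒮.deg W hW) a n : 𝒮.presheaf.obj (op W))) :
    PowerSeries.coeff n (arc hj hW he hz a) = X.evaluation W z hz r := by
  classical
  have hhom : ∀ (k : ℕ) (c : Γ(X, W)), PowerSeries.coeff n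
      (arc hj hW he hz ((𝒮.str.app (op W)).hom c * (gen₁ hW hj e).1 ^ k)) =
        if n = k then X.evaluation W z hz c else 0 := fun k c => by
    rw [map_mul, map_pow, arc_str, arc_gen, PowerSeries.coeff_C_mul_X_pow]
  conv_lhs => rw [← DirectSum.sum_support_decompose (𝒮.deg W hW) a]
  rw [map_sum, map_sum]
  by_cases hn : n ∈ (DirectSum.decompose (𝒮.deg W hW) a).support
  · rw [Finset.sum_eq_single_of_mem n hn fun k _ hk => ?_, ← hr, hhom, if_pos rfl]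
    obtain ⟨c, hc, -⟩ := existsUnique_coeff hW hj he (SetLike.coe_mem (DirectSum.decompose (𝒮.deg W hW) a k))
    rw [← hc, hhom, if_neg hk.symm]
  · rw [Finset.sum_eq_zero fun k hk => ?_]
    · have h0 : (DirectSum.decompose (𝒮.deg W hW) a n : 𝒮.presheaf.obj (op W)) = 0 := by
        rw [DFinsupp.notMem_support_iff.1 hn]; rfl
      have : r = 0 := str_mul_pow_injective hW hj he n (by simp only [map_zero, zero_mul, hr, h0])
      rw [this, map_zero]
    · obtain ⟨c, hc, -⟩ := existsUnique_coeff hW hj he (SetLike.coe_mem (DirectSum.decompose (𝒮.deg W hW) a k))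
      rw [← hc, hhom, if_neg fun h : n = k => hn (h ▸ hk)]

/-- The arc as a morphism into `V(L)`. -/
def arcMor : Spec (CommRingCat.of (PowerSeries (X.residueField z))) ⟶ 𝒮.toQCAlg.spec :=
  Spec.map (CommRingCat.ofHom (arc hj hW he hz)) ≫ 𝒮.toQCAlg.ι W hW

theorem π_arcMor (P : Spec (CommRingCat.of (PowerSeries (X.residueField z)))) :
    ∀ r : Γ(X, W), 𝒮.toQCAlg.π (arcMor hj hW he hz P) ∈ X.basicOpen r ↔ z ∈ X.basicOpen r := by
  intro r
  show 𝒮.toQCAlg.π (𝒮.toQCAlg.ι W hW ((Spec.map (CommRingCat.ofHom (arc hj hW he hz))) P)) ∈ _ ↔ _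
  rw [π_ι_mem_basicOpen, ← X.evaluation_ne_zero_iff_mem_basicOpen z hz r]
  show arc hj hW he hz ((𝒮.str.app (op W)).hom r) ∉ P.asIdeal ↔ _
  rw [arc_str]
  refine ⟨fun h h' => h (by rw [h', map_zero]; exact zero_mem _), fun h h' => P.isPrime.ne_top ?_⟩
  exact Ideal.eq_top_of_isUnit_mem _ h' ((isUnit_iff_ne_zero.2 h).map PowerSeries.C)

theorem π_arcMor_eq (P : Spec (CommRingCat.of (PowerSeries (X.residueField z)))) :
    𝒮.toQCAlg.π (arcMor hj hW he hz P) = z := by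
  have h1 : 𝒮.toQCAlg.π (arcMor hj hW he hz P) ∈ W := π_ι_mem hW _
  have h2 : ∀ N : X.Opens, 𝒮.toQCAlg.π (arcMor hj hW he hz P) ∈ N ↔ z ∈ N := fun N => by
    constructor
    · intro h
      obtain ⟨r, hrN, hr⟩ := hW.exists_basicOpen_le (V := N) ⟨_, h⟩ h1
      exact hrN ((π_arcMor hj hW he hz P r).1 hr)
    · intro h
      obtain ⟨r, hrN, hr⟩ := hW.exists_basicOpen_le (V := N) ⟨_, h⟩ hz
      exact hrN ((π_arcMor hj hW he hz P r).2 hr)
  exact Inseparable.eq (inseparable_iff_forall_isOpen.2 fun s hs => h2 ⟨s, hs⟩)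

/-- The closed point of the arc. -/
def arcClosed : Spec (CommRingCat.of (PowerSeries (X.residueField z))) :=
  ⟨RingHom.ker (PowerSeries.constantCoeff (R := X.residueField z)), RingHom.ker_isPrime _⟩

/-- The generic point of the arc. -/
def arcGeneric : Spec (CommRingCat.of (PowerSeries (X.residueField z))) :=
  ⟨⊥, Ideal.isPrime_bot⟩

include h0 haug hj0 in
theorem arcClosed_mem_range : arcMor hj hW he hz arcClosed ∈ Set.range j0.base := by
  by_contra h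
  refine (vertexCompl_iff hj hW he _).1 ((ι_not_mem_range_iff h0 haug hj0 hW _).1 h) ?_
  show arc hj hW he hz (gen₁ hW hj e).1 ∈ RingHom.ker (PowerSeries.constantCoeff (R := X.residueField z))
  rw [arc_gen, RingHom.mem_ker, PowerSeries.constantCoeff_X]

include h0 haug hj0 in
theorem arcGeneric_not_mem_range : arcMor hj hW he hz arcGeneric ∉ Set.range j0.base := by
  refine (ι_not_mem_range_iff h0 haug hj0 hW _).2 ((vertexCompl_iff hj hW he _).2 ?_)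
  show arc hj hW he hz (gen₁ hW hj e).1 ∉ (⊥ : Ideal (PowerSeries (X.residueField z)))
  rw [arc_gen, Ideal.mem_bot]
  exact PowerSeries.X_ne_zero

include h0 haug hj0 in
theorem top_le_arcMor {G : 𝒮.toQCAlg.spec.Opens} (hG : ∀ v ∈ Set.range j0.base, 𝒮.toQCAlg.π v = z → v ∈ G) :
    ⊤ ≤ arcMor hj hW he hz ⁻¹ᵁ G := by
  intro P _
  have hP : P.asIdeal ≤ RingHom.ker (PowerSeries.constantCoeff (R := X.residueField z)) := fun x hx => by
    by_contra hne
    exact P.isPrime.ne_top (Ideal.eq_top_of_isUnit_mem _ hx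
      (PowerSeries.isUnit_iff_constantCoeff.2 (isUnit_iff_ne_zero.2 hne)))
  have hsp : P ⤳ arcClosed := (PrimeSpectrum.le_iff_specializes P arcClosed).1 hP
  exact (hsp.map (arcMor hj hW he hz).base.hom.continuous).mem_open G.2
    (hG _ (arcClosed_mem_range hj h0 haug hj0 hW he hz) (π_arcMor_eq hj hW he hz _))

end chart

/-- The thickening of the zero section of order `m`. -/
def thick {W : X.Opens} (hW : IsAffineOpen W) (m : ℕ) :
    Spec (CommRingCat.of (𝒮.presheaf.obj (op W) ⧸ (HomogeneousIdeal.irrelevant (𝒮.deg W hW)).toIdeal ^ (m + 1))) ⟶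
      𝒮.toQCAlg.spec :=
  Spec.map (CommRingCat.ofHom (Ideal.Quotient.mk _)) ≫ 𝒮.toQCAlg.ι W hW

include hj h0 haug hj0 in
theorem top_le_thick {O : X.Opens} {G : 𝒮.toQCAlg.spec.Opens}
    (hG : ∀ v ∈ Set.range j0.base, 𝒮.toQCAlg.π v ∈ O → v ∈ G) {W : X.Opens} (hW : IsAffineOpen W) (hWO : W ≤ O)
    (m : ℕ) : ⊤ ≤ thick (𝒮 := 𝒮) hW m ⁻¹ᵁ G := by
  intro P _
  refine hG _ ?_ (hWO (π_ι_mem hW _))
  by_contra h
  refine (mem_vertexCompl _ _).1 ((ι_not_mem_range_iff h0 haug hj0 hW _).1 h) fun a ha => ?_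
  show Ideal.Quotient.mk _ a ∈ P.asIdeal
  refine P.isPrime.mem_of_pow_mem (m + 1) ?_
  rw [← map_pow, Ideal.Quotient.eq_zero_iff_mem.2 (Ideal.pow_mem_pow ha _)]
  exact zero_mem _

include hj h0 haug hj0 in
/-- The Taylor coefficients of a function near the zero section. -/
theorem exists_taylor (hL : PicF.IsInvertible L) {O : X.Opens} {G : 𝒮.toQCAlg.spec.Opens}
    (hG : ∀ v ∈ Set.range j0.base, 𝒮.toQCAlg.π v ∈ O → v ∈ G) (Ψ : Γ(𝒮.toQCAlg.spec, G)) (m : ℕ) :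
    ∃ a : 𝒮.presheaf.obj (op O), HomSec a m ∧ ∀ (W : X.Opens) (hW : IsAffineOpen W) (_ : W ≤ O) (e : Γ(L, W))
      (he : Gen W e) (z : X) (hz : z ∈ W) (le : ⊤ ≤ arcMor hj hW he hz ⁻¹ᵁ G),
        z ∈ nv a m ↔ PowerSeries.coeff m (evalAt (arcMor hj hW he hz) G le Ψ) ≠ 0 := by
  classical
  let I : ∀ (W : X.Opens) (hW : IsAffineOpen W), Ideal (𝒮.presheaf.obj (op W)) := fun W hW =>
    (HomogeneousIdeal.irrelevant (𝒮.deg W hW)).toIdeal ^ (m + 1)
  have hle := fun (W : {W : X.Opens // IsAffineOpen W ∧ W ≤ O}) => top_le_thick hj h0 haug hj0 hG W.2.1 W.2.2 m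
  choose b hb using fun (W : {W : X.Opens // IsAffineOpen W ∧ W ≤ O}) =>
    Ideal.Quotient.mk_surjective (evalAt (thick (𝒮 := 𝒮) W.2.1 m) G (hle W) Ψ)
  let c : ∀ W : {W : X.Opens // IsAffineOpen W ∧ W ≤ O}, 𝒮.presheaf.obj (op W.1) := fun W =>
    (DirectSum.decompose (𝒮.deg W.1 W.2.1) (b W) m : 𝒮.presheaf.obj (op W.1))
  have hdec : ∀ {W A : X.Opens} (hW : IsAffineOpen W) (hA : IsAffineOpen A) (h : A ≤ W) (a : 𝒮.presheaf.obj (op W)),
      (𝒮.presheaf.map (homOfLE h).op).hom (DirectSum.decompose (𝒮.deg W hW) a m : 𝒮.presheaf.obj (op W)) =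
        (DirectSum.decompose (𝒮.deg A hA) ((𝒮.presheaf.map (homOfLE h).op).hom a) m : 𝒮.presheaf.obj (op A)) := by
    intro W A hW hA h a
    refine DirectSum.Decomposition.inductionOn (𝒮.deg W hW) ?_ ?_ ?_ a
    · simp
    · rintro i ⟨y, hy⟩
      rcases eq_or_ne i m with rfl | hik
      · rw [DirectSum.decompose_of_mem_same _ hy, DirectSum.decompose_of_mem_same _ (𝒮.map_mem hW hA h hy)]
      · rw [DirectSum.decompose_of_mem_ne _ hy hik, DirectSum.decompose_of_mem_ne _ (𝒮.map_mem hW hA h hy) hik,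
          map_zero]
    · intro b b' e1 e2
      simp [e1, e2]
  have key : ∀ (W A : {W : X.Opens // IsAffineOpen W ∧ W ≤ O}) (h : A.1 ≤ W.1), rz (c W) A.1 h = c A := by
    intro W A h
    let ρ := (𝒮.presheaf.map (homOfLE h).op).hom
    have hI : I W.1 W.2.1 ≤ (I A.1 A.2.1).comap ρ := by
      refine Ideal.le_comap_pow ρ (m + 1) |>.trans' (Ideal.pow_right_mono ?_ _)
      intro a ha
      exact map_irrelevant_mem (𝒮.res W.2.1 A.2.1 h) ha
    have hsq : Spec.map (CommRingCat.ofHom (Ideal.quotientMap _ ρ hI)) ≫ thick (𝒮 := 𝒮) W.2.1 m =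
        thick (𝒮 := 𝒮) A.2.1 m := by
      rw [thick, thick, ← Spec.map_comp_assoc, ← RelSpecLib.ι_res 𝒮.toQCAlg W.2.1 A.2.1 h, ← Spec.map_comp_assoc]
      rfl
    have h1 : Ideal.Quotient.mk (I A.1 A.2.1) (ρ (b W)) = Ideal.Quotient.mk (I A.1 A.2.1) (b A) := by
      rw [hb A, ← evalAt_congr hsq G (by rw [hsq]; exact hle A) (hle A) Ψ, evalAt_comp _ _ G (hle W), ← hb W]
      rfl
    have h2 := decompose_eq_zero_of_mem_pow (𝒮.deg A.1 A.2.1) (Nat.lt_succ_self m)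
      (Ideal.Quotient.eq.1 h1)
    rw [DirectSum.decompose_sub, DirectSum.sub_apply, AddSubgroup.coe_sub, sub_eq_zero] at h2
    exact (hdec W.2.1 A.2.1 h (b W)).trans h2
  have hcompat : TopCat.Presheaf.IsCompatible 𝒮.presheaf (fun W : {W : X.Opens // IsAffineOpen W ∧ W ≤ O} => W.1) c := by
    intro W W'
    have hloc : ∀ z : (W.1 ⊓ W'.1 : X.Opens), ∃ (A : X.Opens) (_ : IsAffineOpen A), z.1 ∈ A ∧ A ≤ W.1 ⊓ W'.1 := fun z => by
      obtain ⟨A, hA, hzA, hle⟩ := exists_isAffineOpen_mem_and_subset z.2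
      exact ⟨A, hA, hzA, hle⟩
    choose A hA hzA hle' using hloc
    refine TopCat.Sheaf.eq_of_locally_eq' ⟨𝒮.presheaf, 𝒮.isSheaf⟩ A (W.1 ⊓ W'.1) (fun z => homOfLE (hle' z))
      (fun z hz => Opens.mem_iSup.2 ⟨⟨z, hz⟩, hzA _⟩) _ _ fun z => ?_
    show rz (rz (c W) _ inf_le_left) (A z) (hle' z) = rz (rz (c W') _ inf_le_right) (A z) (hle' z)
    have hAO : A z ≤ O := ((hle' z).trans inf_le_left).trans W.2.2
    rw [rz_rz, rz_rz, key W ⟨A z, hA z, hAO⟩, key W' ⟨A z, hA z, hAO⟩]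
  obtain ⟨a, ha, -⟩ := TopCat.Sheaf.existsUnique_gluing' ⟨𝒮.presheaf, 𝒮.isSheaf⟩
    (fun W : {W : X.Opens // IsAffineOpen W ∧ W ≤ O} => W.1) O (fun W => homOfLE W.2.2)
    (fun y hy => by
      obtain ⟨A, hA, hyA, hle⟩ := exists_isAffineOpen_mem_and_subset hy
      exact Opens.mem_iSup.2 ⟨⟨A, hA, hle⟩, hyA⟩) c hcompat
  have ha' : ∀ (W : X.Opens) (hW : IsAffineOpen W) (hWO : W ≤ O), rz a W hWO = c ⟨W, hW, hWO⟩ := fun W hW hWO =>
    ha ⟨W, hW, hWO⟩
  refine ⟨a, fun W hW hWO => ?_, fun W hW hWO e he z hz le => ?_⟩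
  · rw [ha' W hW hWO]; exact SetLike.coe_mem _
  obtain ⟨r, hr, -⟩ := existsUnique_coeff hW hj he (SetLike.coe_mem (DirectSum.decompose (𝒮.deg W hW) (b ⟨W, hW, hWO⟩) m))
  rw [mem_nv_iff a m hj hW hWO he (hr.trans (ha' W hW hWO).symm) hz, ← X.evaluation_ne_zero_iff_mem_basicOpen z hz r]
  refine not_congr ?_
  suffices X.evaluation W z hz r = PowerSeries.coeff m (evalAt (arcMor hj hW he hz) G le Ψ) by rw [this]
  rw [← coeff_arc hj hW he hz (b ⟨W, hW, hWO⟩) m hr]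
  let J : Ideal (PowerSeries (X.residueField z)) := Ideal.span {PowerSeries.X} ^ (m + 1)
  have hIJ : I W hW ≤ J.comap (arc hj hW he hz) :=
    Ideal.le_comap_pow _ (m + 1) |>.trans' (Ideal.pow_right_mono (fun a ha => arc_irrelevant hj haug hW he hz ha) _)
  have hsq : Spec.map (CommRingCat.ofHom (Ideal.Quotient.mk J)) ≫ arcMor hj hW he hz =
      Spec.map (CommRingCat.ofHom (Ideal.quotientMap J (arc hj hW he hz) hIJ)) ≫ thick (𝒮 := 𝒮) hW m := by
    rw [thick, arcMor, ← Spec.map_comp_assoc, ← Spec.map_comp_assoc]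
    rfl
  have h1 := evalAt_congr hsq G (fun P _ => le (x := (Spec.map (CommRingCat.ofHom (Ideal.Quotient.mk J))) P) trivial)
    (fun P _ => hle ⟨W, hW, hWO⟩ (x := (Spec.map (CommRingCat.ofHom (Ideal.quotientMap J (arc hj hW he hz) hIJ))) P) trivial) Ψ
  rw [evalAt_comp _ _ G le, evalAt_comp _ _ G (hle ⟨W, hW, hWO⟩), ← hb ⟨W, hW, hWO⟩] at h1
  have h2 : arc hj hW he hz (b ⟨W, hW, hWO⟩) - evalAt (arcMor hj hW he hz) G le Ψ ∈ J := Ideal.Quotient.eq.1 h1.symm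
  rw [show J = Ideal.span {PowerSeries.X ^ (m + 1)} from Ideal.span_singleton_pow _ _, Ideal.mem_span_singleton,
    PowerSeries.X_pow_dvd_iff] at h2
  exact sub_eq_zero.1 ((map_sub _ _ _).symm.trans (h2 m (Nat.lt_succ_self m)))

include hj h0 haug hj0 in
/-- A function near the zero section with small locus gives a homogeneous element with small locus. -/
theorem exists_small_of_function (hL : PicF.IsInvertible L) {O : X.Opens} {G : 𝒮.toQCAlg.spec.Opens}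
    (hG : ∀ v ∈ Set.range j0.base, 𝒮.toQCAlg.π v ∈ O → v ∈ G) (Ψ : Γ(𝒮.toQCAlg.spec, G))
    {x : X} {N : X.Opens} (hΨ : ∀ v ∈ 𝒮.toQCAlg.spec.basicOpen Ψ, 𝒮.toQCAlg.π v ∈ N ∧ v ∉ Set.range j0.base)
    {W : X.Opens} (hW : IsAffineOpen W) (hWO : W ≤ O) {e : Γ(L, W)} (he : Gen W e) (hx : x ∈ W)
    (hgen : arcMor hj hW he hx arcGeneric ∈ 𝒮.toQCAlg.spec.basicOpen Ψ) :
    ∃ (n : ℕ) (_ : 0 < n) (a : 𝒮.presheaf.obj (op O)), HomSec a n ∧ x ∈ nv a n ∧ nv a n ≤ N := by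
  have hle : ∀ {W : X.Opens} (hW : IsAffineOpen W) (_ : W ≤ O) {e : Γ(L, W)} (he : Gen W e) {z : X} (hz : z ∈ W),
      ⊤ ≤ arcMor hj hW he hz ⁻¹ᵁ G := fun hW hWO _ he z hz =>
    top_le_arcMor hj h0 haug hj0 hW he hz fun v hv hπ => hG v hv (hπ ▸ hWO hz)
  let Φ := evalAt (arcMor hj hW he hx) G (hle hW hWO he hx) Ψ
  have hΦ : Φ ≠ 0 := fun h => by
    have h1 : arcGeneric ∈ arcMor hj hW he hx ⁻¹ᵁ 𝒮.toQCAlg.spec.basicOpen Ψ := hgen
    rw [preimage_basicOpen_evalAt _ G (hle hW hWO he hx)] at h1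
    exact h1 (Ideal.mem_bot.2 h)
  obtain ⟨n, hn⟩ := (PowerSeries.exists_coeff_ne_zero_iff_ne_zero (φ := Φ)).2 hΦ
  obtain ⟨a, ha, hcoeff⟩ := exists_taylor hj h0 haug hj0 hL hG Ψ n
  have hn0 : 0 < n := by
    refine Nat.pos_of_ne_zero fun h => hn ?_
    subst h
    rw [PowerSeries.coeff_zero_eq_constantCoeff_apply]
    by_contra hne
    have h1 : arcClosed ∈ arcMor hj hW he hx ⁻¹ᵁ 𝒮.toQCAlg.spec.basicOpen Ψ := by
      rw [preimage_basicOpen_evalAt _ G (hle hW hWO he hx)]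
      exact hne
    exact (hΨ _ h1).2 (arcClosed_mem_range hj h0 haug hj0 hW he hx)
  refine ⟨n, hn0, a, ha, (hcoeff W hW hWO e he x hx _).2 hn, fun z hz => ?_⟩
  obtain ⟨W', hW', e', hzW', hWO', he'⟩ := exists_triv z hL (nv_le a n hz)
  by_contra hzN
  refine (hcoeff W' hW' hWO' e' he' z hzW' (hle hW' hWO' he' hzW')).1 hz ?_
  suffices h : evalAt (arcMor hj hW' he' hzW') G (hle hW' hWO' he' hzW') Ψ = 0 by rw [h, map_zero]
  by_contra hne
  have h1 : arcGeneric ∈ arcMor hj hW' he' hzW' ⁻¹ᵁ 𝒮.toQCAlg.spec.basicOpen Ψ := by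
    rw [preimage_basicOpen_evalAt _ G (hle hW' hWO' he' hzW')]
    exact fun h => hne (Ideal.mem_bot.1 h)
  exact hzN (π_arcMor_eq hj hW' he' hzW' arcGeneric ▸ (hΨ _ h1).1)

end Groth.Agent.ContrCritLib
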