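import Groth.Agent.ContrCritLib.Pinch
import Groth.Prelude.Def_AffAlg

/-!
# The relative spectrum of a direct-image algebra
-/

set_option autoImplicit false
set_option linter.style.haveILetI false
set_option linter.unusedSectionVars false
set_option backward.isDefEq.respectTransparency false

universe u

open CategoryTheory CategoryTheory.Limits AlgebraicGeometry TopologicalSpace Opposite
open Groth.Agent.RelSpecLib

noncomputable section

namespace Groth.Agent.ContrCritLib

variable {V Y : Scheme.{u}} (f : V ⟶ Y) [QuasiCompact f] [QuasiSeparated f]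

/-- `q'` is the canonical morphism to the spectrum of the direct image. -/
def IsCanonical (q' : V ⟶ (RelSpec.QCAlg.directImage f).spec)
    (w : q' ≫ (RelSpec.QCAlg.directImage f).π = f) : Prop :=
  AffAlg.algHom (RelSpec.QCAlg.directImage f).π f q' w = (RelSpec.QCAlg.directImage f).gammaMap

theorem str_id : (RelSpec.QCAlg.directImage f).str ≫ 𝟙 (RelSpec.QCAlg.directImage f).presheaf = f.c :=
  Category.comp_id _

/-- The canonical morphism. -/
def canMor : V ⟶ (RelSpec.QCAlg.directImage f).spec :=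
  lift (RelSpec.QCAlg.directImage f) f (𝟙 _)

theorem canMor_π : canMor f ≫ (RelSpec.QCAlg.directImage f).π = f := lift_π _ _ _ (str_id f)

theorem isCanonical_canMor : IsCanonical f (canMor f) (canMor_π f) := by
  have h := algMap_lift (RelSpec.QCAlg.directImage f) f (𝟙 _) (str_id f)
  have h2 := gammaMap_algMap (RelSpec.QCAlg.directImage f) f (canMor f) (canMor_π f)
  show _ = _
  rw [← h2]
  unfold canMor
  rw [h]
  exact Category.comp_id _

variable {f} {q' : V ⟶ (RelSpec.QCAlg.directImage f).spec} {w : q' ≫ (RelSpec.QCAlg.directImage f).π = f}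
  (hc : IsCanonical f q' w)

include hc in
theorem IsCanonical.algMap_eq : algMap (RelSpec.QCAlg.directImage f) f q' w = 𝟙 _ := by
  haveI := SpecQCAlg.isIso_gammaMap (RelSpec.QCAlg.directImage f)
  rw [← cancel_epi (RelSpec.QCAlg.directImage f).gammaMap, gammaMap_algMap, hc]
  exact (Category.comp_id _).symm

include hc in
theorem IsCanonical.quasiCompact : QuasiCompact q' := by
  haveI : QuasiCompact (q' ≫ (RelSpec.QCAlg.directImage f).π) := by rw [w]; infer_instance
  exact QuasiCompact.of_comp q' (RelSpec.QCAlg.directImage f).π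

include hc in
theorem IsCanonical.quasiSeparated : QuasiSeparated q' := by
  haveI : QuasiSeparated (q' ≫ (RelSpec.QCAlg.directImage f).π) := by rw [w]; infer_instance
  exact QuasiSeparated.of_comp q' (RelSpec.QCAlg.directImage f).π

theorem pre_le (U : Y.Opens) (w : q' ≫ (RelSpec.QCAlg.directImage f).π = f) :
    f ⁻¹ᵁ U ≤ q' ⁻¹ᵁ ((RelSpec.QCAlg.directImage f).π ⁻¹ᵁ U) :=
  RelSpecLib.preimage_le _ _ w U

include hc in
theorem IsCanonical.bijective_appLE {U : Y.Opens} (hU : IsAffineOpen U) :
    Function.Bijective (q'.appLE ((RelSpec.QCAlg.directImage f).π ⁻¹ᵁ U) (f ⁻¹ᵁ U) (pre_le U w)) := by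
  haveI := SpecQCAlg.isIso_gammaAff (RelSpec.QCAlg.directImage f) U hU
  have h := gammaAff_algMap (RelSpec.QCAlg.directImage f) f q' w U hU
  rw [hc.algMap_eq] at h
  rw [← h]
  haveI : IsIso ((RelSpec.QCAlg.directImage f).gammaAff U hU ≫
      (𝟙 (RelSpec.QCAlg.directImage f).presheaf : _ ⟶ _).app (op U)) := by
    rw [NatTrans.id_app]; infer_instance
  exact ConcreteCategory.bijective_of_isIso _

/-- Bijectivity on functions passes to basic opens. -/
theorem bijective_app_basicOpen {A B : Scheme.{u}} (h : A ⟶ B) [QuasiCompact h] [QuasiSeparated h]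
    {U : B.Opens} (hU : IsAffineOpen U) (hb : Function.Bijective (h.app U)) (x : Γ(B, U)) :
    Function.Bijective (h.app (B.basicOpen x)) := by
  let ρB := (B.presheaf.map (homOfLE (B.basicOpen_le x)).op).hom
  obtain ⟨hs, hz⟩ := pushforward_loc h hU x
  haveI := hU.isLocalization_basicOpen x
  have hu : IsUnit (ρB x) := RingedSpace.isUnit_res_basicOpen _ x
  constructor
  · intro a b hab
    obtain ⟨n, c, hc⟩ := IsLocalization.Away.surj (S := Γ(B, B.basicOpen x)) x (a - b)
    change (a - b) * ρB x ^ n = ρB c at hc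
    have h0 : A.presheaf.map (homOfLE (h.preimage_mono (B.basicOpen_le x))).op (h.app U c) = 0 := by
      rw [← app_res h (B.basicOpen_le x) c]
      show h.app _ (ρB c) = 0
      rw [← hc, map_mul, map_sub, hab, sub_self, zero_mul]
    obtain ⟨m, hm⟩ := hz _ h0
    have h1 : x ^ m * c = 0 := hb.1 (by rw [map_mul, map_pow, hm, map_zero])
    have h2 := congrArg ρB h1
    rw [map_mul, map_pow, map_zero, ← hc] at h2
    exact sub_eq_zero.1 ((IsUnit.mul_left_eq_zero (hu.pow n)).1 ((IsUnit.mul_right_eq_zero (hu.pow m)).1 h2))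
  · intro y
    obtain ⟨n, c, hc⟩ := hs y
    obtain ⟨c', rfl⟩ := hb.2 c
    obtain ⟨v, hv⟩ := (hu.pow n).exists_left_inv
    refine ⟨v * ρB c', ?_⟩
    have hv' : h.app _ v * A.presheaf.map (homOfLE (h.preimage_mono (B.basicOpen_le x))).op (h.app U x) ^ n = 1 := by
      rw [← app_res h (B.basicOpen_le x) x, ← map_pow, ← map_mul]
      show h.app _ (v * ρB x ^ n) = 1
      rw [hv, map_one]
    rw [map_mul, show h.app _ (ρB c') = _ from app_res h (B.basicOpen_le x) c', ← hc]
    linear_combination y * hv'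

include hc in
theorem IsCanonical.isIso_c : IsIso q'.c := by
  haveI := hc.quasiCompact
  haveI := hc.quasiSeparated
  let g := (RelSpec.QCAlg.directImage f).π
  let C := (RelSpec.QCAlg.directImage f).spec
  let ι := {D : C.Opens // ∃ (U : Y.Opens) (_ : IsAffineOpen U) (x : Γ(C, g ⁻¹ᵁ U)), D = C.basicOpen x}
  have hB : Opens.IsBasis (Set.range fun D : ι => D.1) := by
    refine Opens.isBasis_iff_nbhd.2 fun {N c} hc' => ?_
    obtain ⟨U, hU, hcU, -⟩ := exists_isAffineOpen_mem_and_subset (U := (⊤ : Y.Opens)) (show g c ∈ (⊤ : Y.Opens) from trivial)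
    obtain ⟨x, hx, hcx⟩ := (hU.preimage g).exists_basicOpen_le (V := N) ⟨c, hc'⟩ hcU
    exact ⟨C.basicOpen x, ⟨⟨C.basicOpen x, U, hU, x, rfl⟩, rfl⟩, hcx, hx⟩
  let α : C.sheaf ⟶ (TopCat.Sheaf.pushforward CommRingCat.{u} q'.base).obj V.sheaf := ⟨q'.c⟩
  haveI : IsIso α := TopCat.Sheaf.isIso_iff_isIso_basis hB fun D => by
    obtain ⟨D, U, hU, x, rfl⟩ := D
    refine (ConcreteCategory.isIso_iff_bijective _).2 ?_
    refine bijective_app_basicOpen q' (hU.preimage g) ?_ x
    have h1 := hc.bijective_appLE hU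
    have e : q' ⁻¹ᵁ (g ⁻¹ᵁ U) = f ⁻¹ᵁ U := by rw [← Scheme.Hom.comp_preimage, w]
    have : ∀ (W : V.Opens) (e : W = q' ⁻¹ᵁ (g ⁻¹ᵁ U)), Function.Bijective (q'.appLE _ W e.le) →
        Function.Bijective (q'.app (g ⁻¹ᵁ U)) := by
      rintro W rfl h
      rwa [Scheme.Hom.app_eq_appLE]
    exact this _ e.symm h1
  exact inferInstanceAs (IsIso ((sheafToPresheaf _ _).map α))

include hc in
theorem IsCanonical.denseRange : DenseRange q'.base := by
  haveI := hc.isIso_c
  rw [DenseRange, dense_iff_inter_open]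
  rintro O hO ⟨c, hcO⟩
  by_contra hne
  rw [Set.not_nonempty_iff_eq_empty] at hne
  let O' : (RelSpec.QCAlg.directImage f).spec.Opens := ⟨O, hO⟩
  have hb := ConcreteCategory.bijective_of_isIso (q'.c.app (op O'))
  have hempty : q' ⁻¹ᵁ O' = ⊥ := eq_bot_iff.2 fun v hv =>
    Set.eq_empty_iff_forall_notMem.1 hne (q'.base v) ⟨hv, v, rfl⟩
  have hsub : ∀ W : V.Opens, W = ⊥ → Subsingleton Γ(V, W) := by
    rintro W rfl; infer_instance
  haveI := hsub _ hempty
  haveI : Nontrivial Γ((RelSpec.QCAlg.directImage f).spec, O') := by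
    haveI : Nonempty O' := ⟨⟨c, hcO⟩⟩
    exact (RelSpec.QCAlg.directImage f).spec.component_nontrivial O'
  obtain ⟨a, b, hab⟩ := exists_pair_ne Γ((RelSpec.QCAlg.directImage f).spec, O')
  exact hab (hb.1 (Subsingleton.elim (α := Γ(V, q' ⁻¹ᵁ O')) _ _))

theorem isReduced_directImage [IsReduced V] : IsReduced (RelSpec.QCAlg.directImage f).spec := by
  haveI := (isCanonical_canMor f).isIso_c
  haveI : ∀ (W : (RelSpec.QCAlg.directImage f).spec.Opens),
      _root_.IsReduced Γ((RelSpec.QCAlg.directImage f).spec, W) := fun W =>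
    isReduced_of_injective (S := Γ(V, canMor f ⁻¹ᵁ W)) ((canMor f).app W).hom
      (ConcreteCategory.bijective_of_isIso ((canMor f).c.app (op W))).1
  exact ⟨inferInstance⟩

theorem isIntegral_directImage [IsIntegral V] : IsIntegral (RelSpec.QCAlg.directImage f).spec := by
  haveI := isReduced_directImage (f := f)
  have hd := (isCanonical_canMor f).denseRange
  haveI : Nonempty (RelSpec.QCAlg.directImage f).spec := Nonempty.map (canMor f).base inferInstance
  haveI : IrreducibleSpace (RelSpec.QCAlg.directImage f).spec := by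
    refine (irreducibleSpace_def _).2 ?_
    show IsIrreducible (Set.univ : Set (RelSpec.QCAlg.directImage f).spec)
    rw [← hd.closure_range, isIrreducible_iff_closure, ← Set.image_univ]
    exact (IrreducibleSpace.isIrreducible_univ V).image _ (canMor f).continuous.continuousOn
  exact isIntegral_of_irreducibleSpace_of_isReduced _

theorem isNormal_directImage
    (h : ∀ U : Y.Opens, IsAffineOpen U → ∀ (P : Ideal Γ(V, f ⁻¹ᵁ U)) [P.IsPrime],
      IsDomain (Localization.AtPrime P) ∧ IsIntegrallyClosed (Localization.AtPrime P)) (c : (RelSpec.QCAlg.directImage f).spec) :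
    IsDomain ((RelSpec.QCAlg.directImage f).spec.presheaf.stalk c) ∧
      IsIntegrallyClosed ((RelSpec.QCAlg.directImage f).spec.presheaf.stalk c) := by
  let C := (RelSpec.QCAlg.directImage f).spec
  let g := (RelSpec.QCAlg.directImage f).π
  obtain ⟨U, hU, hcU, -⟩ := exists_isAffineOpen_mem_and_subset (U := (⊤ : Y.Opens)) (show g c ∈ (⊤ : Y.Opens) from trivial)
  have hA := hU.preimage g
  let e : Γ(C, g ⁻¹ᵁ U) ≃+* Γ(V, f ⁻¹ᵁ U) :=
    RingEquiv.ofBijective _ ((isCanonical_canMor f).bijective_appLE hU)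
  let p := (hA.primeIdealOf ⟨c, hcU⟩).asIdeal
  let P : Ideal Γ(V, f ⁻¹ᵁ U) := p.comap e.symm.toRingHom
  haveI : P.IsPrime := Ideal.comap_isPrime _ _
  obtain ⟨hd, hn⟩ := h U hU P
  letI := C.presheaf.algebra_section_stalk (⟨c, hcU⟩ : (g ⁻¹ᵁ U : C.Opens))
  haveI := hA.isLocalization_stalk ⟨c, hcU⟩
  haveI := hd
  haveI := hn
  let E : C.presheaf.stalk c ≃+* Localization.AtPrime P :=
    IsLocalization.ringEquivOfRingEquiv (M := p.primeCompl) (T := P.primeCompl)
      (C.presheaf.stalk c) (Localization.AtPrime P) e (by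
        ext z
        simp only [Submonoid.mem_map, P]
        constructor
        · rintro ⟨y, hy, rfl⟩ h'
          have h'' : e.symm (e y) ∈ p := h'
          rw [e.symm_apply_apply] at h''
          exact hy h''
        · intro hz
          exact ⟨e.symm z, hz, e.apply_symm_apply z⟩)
  exact ⟨E.toMulEquiv.isDomain _, IsIntegrallyClosed.of_equiv E.symm⟩

end Groth.Agent.ContrCritLib
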