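import Groth.Agent.ContrCritLib.Main
import Groth.Agent.ContrCritLib.DirectSpec
import Groth.Agent.S3567
import Groth.Agent.S3568

/-!
# The universal contraction when the base functions are those of the total space
-/

set_option autoImplicit false
set_option linter.style.haveILetI false
set_option linter.unusedSectionVars false
set_option backward.isDefEq.respectTransparency false

universe u

open CategoryTheory CategoryTheory.Limits AlgebraicGeometry TopologicalSpace Opposite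
open Groth.Agent.RelSpecLib

noncomputable section

namespace Groth.Agent.ContrCritLib

section pinchIso

variable {X V Y : Scheme.{u}} (f : V ⟶ Y) (p : X ⟶ Y) (j : X ⟶ V) (w : j ≫ f = p)
  [QuasiCompact f] [QuasiSeparated f] [QuasiCompact p] [QuasiSeparated p]

/-- The second projection as a homomorphism of algebras. -/
def sndAlgHom : pairAlg f p j w ⟶ RelSpec.QCAlg.directImage f := ⟨sndHom f p j w, str_sndHom f p j w⟩

theorem isIso_sndAlgHom (hθ : IsIso p.c) : IsIso (sndAlgHom f p j w) := by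
  haveI : IsIso (sndHom f p j w) := by
    haveI : ∀ U, IsIso ((sndHom f p j w).app U) := fun U => by
      refine (ConcreteCategory.isIso_iff_bijective _).2 ⟨fun a b h => ?_, fun φ => ?_⟩
      · have hp := ConcreteCategory.bijective_of_isIso (p.c.app U)
        refine Subtype.ext (Prod.ext (hp.1 ?_) h)
        show p.app U.unop a.1.1 = p.app U.unop b.1.1
        rw [(mem_pairs f p j w).1 a.2, (mem_pairs f p j w).1 b.2, show a.1.2 = b.1.2 from h]
      · obtain ⟨r, hr⟩ := (ConcreteCategory.bijective_of_isIso (p.c.app U)).2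
          (j.appLE (f ⁻¹ᵁ U.unop) (p ⁻¹ᵁ U.unop) (le_pre f p j w U.unop) φ)
        exact ⟨⟨(r, φ), hr⟩, rfl⟩
    exact NatIso.isIso_of_isIso_app _
  refine ⟨⟨⟨inv (sndHom f p j w), ?_⟩, RelSpec.QCAlg.hom_ext ?_, RelSpec.QCAlg.hom_ext ?_⟩⟩
  · rw [IsIso.comp_inv_eq]; exact (str_sndHom f p j w).symm
  · exact IsIso.hom_inv_id (sndHom f p j w)
  · exact IsIso.inv_hom_id (sndHom f p j w)

theorem exists_pinch_iso (hθ : IsIso p.c) (q' : V ⟶ (RelSpec.QCAlg.directImage f).spec)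
    (wq : q' ≫ (RelSpec.QCAlg.directImage f).π = f) (hc : IsCanonical f q' wq) :
    ∃ σ : (RelSpec.QCAlg.directImage f).spec ⟶ pinch f p j w, IsIso σ ∧ q' ≫ σ = contr f p j w ∧
      σ ≫ (pairAlg f p j w).π = (RelSpec.QCAlg.directImage f).π := by
  haveI := isIso_sndAlgHom f p j w hθ
  refine ⟨RelSpec.QCAlg.specMap (sndAlgHom f p j w), ⟨RelSpec.QCAlg.specMap (inv (sndAlgHom f p j w)), ?_, ?_⟩, ?_,
    RelSpec.QCAlg.specMap_π _⟩
  · rw [← specMap_comp, IsIso.inv_hom_id, specMap_id]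
  · rw [← specMap_comp, IsIso.hom_inv_id, specMap_id]
  · refine ext_over (pairAlg f p j w) f (by rw [Category.assoc, RelSpec.QCAlg.specMap_π, wq]) (contr_π f p j w) ?_
    rw [algMap_specMap f (sndAlgHom f p j w) q' wq, hc.algMap_eq, Category.comp_id]
    unfold contr
    rw [algMap_lift _ _ _ (str_sndHom f p j w)]
    rfl

end pinchIso

variable {X Y : Scheme.{u}} (p : X ⟶ Y) [IsProper p]
  {L : X.Modules} [Coh.IsQCoh L] {𝒮 : RelProj.QCGrAlg X} {jL : L ⟶ 𝒮.toModule}
  (hj : RelProj.IsGrSymAlg L 𝒮 jL)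
  {aug : 𝒮.toQCAlg ⟶ RelSpec.QCAlg.unit X} (h0 : RelCone.StrZeroBij 𝒮) (haug : RelCone.IsAugmentation 𝒮 aug)
  {j0 : X ⟶ 𝒮.toQCAlg.spec} (hj0 : RelCone.IsVertex 𝒮 aug j0)
  (hL : PicF.IsInvertible L) (hamp : RelAmple.IsRelAmple p L) (hθ : IsIso p.c)
  (q' : 𝒮.toQCAlg.spec ⟶ (RelSpec.QCAlg.directImage (𝒮.toQCAlg.π ≫ p)).spec)
  (wq : q' ≫ (RelSpec.QCAlg.directImage (𝒮.toQCAlg.π ≫ p)).π = 𝒮.toQCAlg.π ≫ p)
  (hq' : IsCanonical (𝒮.toQCAlg.π ≫ p) q' wq)

include hθ in
theorem surjective_of_isIso_c : Function.Surjective p.base := by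
  intro y
  by_contra hy
  let O : Y.Opens := ⟨(Set.range p.base)ᶜ, p.isClosedMap.isClosed_range.isOpen_compl⟩
  have hb := ConcreteCategory.bijective_of_isIso (p.c.app (op O))
  have hempty : p ⁻¹ᵁ O = ⊥ := eq_bot_iff.2 fun x hx => hx ⟨x, rfl⟩
  have hsub : ∀ W : X.Opens, W = ⊥ → Subsingleton Γ(X, W) := by
    rintro W rfl; infer_instance
  haveI := hsub _ hempty
  haveI : Nonempty O := ⟨⟨y, hy⟩⟩
  haveI : Nontrivial Γ(Y, O) := Y.component_nontrivial O
  obtain ⟨a, b, hab⟩ := exists_pair_ne Γ(Y, O)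
  exact hab (hb.1 (Subsingleton.elim (α := Γ(X, p ⁻¹ᵁ O)) _ _))

include hj h0 haug hj0 hL hamp hθ hq' in
/-- The canonical morphism is a contraction of the zero section. -/
theorem canonical_facts (V0 : 𝒮.toQCAlg.spec.Opens) (hV0 : (V0 : Set 𝒮.toQCAlg.spec) = (Set.range j0.base)ᶜ) :
    IsProper q' ∧ Function.Surjective q'.base ∧ IsOpenImmersion (V0.ι ≫ q') ∧
      ∃ ε' : Y ⟶ (RelSpec.QCAlg.directImage (𝒮.toQCAlg.π ≫ p)).spec,
        ε' ≫ (RelSpec.QCAlg.directImage (𝒮.toQCAlg.π ≫ p)).π = 𝟙 Y ∧ j0 ≫ q' = p ≫ ε' ∧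
        Set.range ε'.base = q'.base '' Set.range j0.base ∧
        Set.range (V0.ι ≫ q').base = (Set.range ε'.base)ᶜ := by
  obtain ⟨σ, hσ, hσq, hσπ⟩ := exists_pinch_iso (𝒮.toQCAlg.π ≫ p) p j0 (comp_eq p hj0.comp_π) hθ q' wq hq'
  haveI := hσ
  have hq : q' = contrq p hj0 ≫ inv σ := by rw [IsIso.eq_comp_inv]; exact hσq
  obtain ⟨ho, hd⟩ := contraction_of_isRelAmple p hj h0 haug hj0 hL V0 hV0 hamp
  haveI := isProper_contr p hj h0 haug hj0 hL hamp
  haveI := ho
  have hε : ∀ y, (contrε p hj0 ≫ inv σ).base y = (inv σ).base ((contrε p hj0).base y) := fun y => rfl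
  have hr := range_contr p hj h0 haug hj0 hL V0 hV0 hamp
  have hj' : j0 ≫ q' = p ≫ contrε p hj0 ≫ inv σ := by
    rw [hq, ← Category.assoc, ← Category.assoc, j_contr]
  refine ⟨hq ▸ inferInstance, fun c => ?_, ?_, contrε p hj0 ≫ inv σ, ?_, hj', ?_, ?_⟩
  · obtain ⟨c', rfl⟩ : ∃ c', (inv σ).base c' = c := ⟨σ.base c, by
      show (σ ≫ inv σ).base c = c
      rw [IsIso.hom_inv_id]; rfl⟩
    by_cases hc : c' ∈ Set.range (contrε p hj0).base
    · obtain ⟨y, rfl⟩ := hc
      obtain ⟨x, rfl⟩ := surjective_of_isIso_c p hθ y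
      exact ⟨j0 x, congrArg (fun t : X ⟶ _ => t x) hj'⟩
    · obtain ⟨v, rfl⟩ := hr.ge hc
      exact ⟨v.1, congrArg (fun t : 𝒮.toQCAlg.spec ⟶ _ => t v.1) hq⟩
  · rw [hq, ← Category.assoc]; infer_instance
  · rw [Category.assoc, ← hσπ, IsIso.inv_hom_id_assoc]; exact sect_π _ _ _ _
  · refine Set.Subset.antisymm ?_ ?_
    · rintro _ ⟨y, rfl⟩
      obtain ⟨x, rfl⟩ := surjective_of_isIso_c p hθ y
      exact ⟨_, ⟨x, rfl⟩, congrArg (fun t : X ⟶ _ => t x) hj'⟩
    · rintro _ ⟨_, ⟨x, rfl⟩, rfl⟩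
      exact ⟨p x, (congrArg (fun t : X ⟶ _ => t x) hj').symm⟩
  · rw [hq, ← Category.assoc]
    simp only [Scheme.Hom.comp_base, TopCat.coe_comp, Set.range_comp]
    have hb : Function.Bijective (inv σ).base := (inv σ).homeomorph.bijective
    rw [← Set.image_compl_eq hb]
    congr 1
    rw [← hr]
    simp only [Scheme.Hom.comp_base, TopCat.coe_comp, Set.range_comp]

variable {C : Scheme.{u}} (gC : C ⟶ Y) (ε : Y ⟶ C) (hε : ε ≫ gC = 𝟙 Y)
  (q : 𝒮.toQCAlg.spec ⟶ C) (hqg : q ≫ gC = 𝒮.toQCAlg.π ≫ p) (hjq : j0 ≫ q = p ≫ ε)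

include hj h0 haug hj0 hL hamp hθ hq' hjq hqg in
/-- Every contraction factors uniquely through the canonical one. -/
theorem existsUnique_factor :
    ∃! u : (RelSpec.QCAlg.directImage (𝒮.toQCAlg.π ≫ p)).spec ⟶ C,
      u ≫ gC = (RelSpec.QCAlg.directImage (𝒮.toQCAlg.π ≫ p)).π ∧ q' ≫ u = q := by
  have hcl : IsClosed (Set.range j0.base) := by
    haveI : IsClosedImmersion j0 := by
      haveI : IsClosedImmersion (j0 ≫ 𝒮.toQCAlg.π) := by rw [hj0.comp_π]; infer_instance
      exact IsClosedImmersion.of_comp _ 𝒮.toQCAlg.π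
    exact j0.isClosedEmbedding.isClosed_range
  let V0 : 𝒮.toQCAlg.spec.Opens := ⟨_, hcl.isOpen_compl⟩
  obtain ⟨hpr, hsurj, ho, ε', hε', hj', hrε, hr⟩ := canonical_facts p hj h0 haug hj0 hL hamp hθ q' wq hq' V0 rfl
  haveI := hpr
  haveI : Surjective q' := ⟨hsurj⟩
  haveI := hq'.isIso_c
  have hquot : Topology.IsQuotientMap q'.base :=
    q'.isClosedMap.isQuotientMap q'.continuous hsurj
  obtain ⟨huniq, hex⟩ := Groth.Agent.S3567.result q' hquot C
  have hfib : ∀ x y : 𝒮.toQCAlg.spec, q'.base x = q'.base y → q.base x = q.base y := by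
    intro x y hxy
    by_cases hx : x ∈ Set.range j0.base
    · by_cases hy : y ∈ Set.range j0.base
      · obtain ⟨a, rfl⟩ := hx
        obtain ⟨b, rfl⟩ := hy
        have e : ∀ c, q'.base (j0.base c) = ε'.base (p.base c) := fun c => congrArg (fun t : X ⟶ _ => t c) hj'
        have e2 : ∀ c, q.base (j0.base c) = ε.base (p.base c) := fun c => congrArg (fun t : X ⟶ _ => t c) hjq
        rw [e, e] at hxy
        have : p.base a = p.base b := by
          have h2 := congrArg (RelSpec.QCAlg.directImage (𝒮.toQCAlg.π ≫ p)).π.base hxy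
          have h3 : ∀ z, (RelSpec.QCAlg.directImage (𝒮.toQCAlg.π ≫ p)).π.base (ε'.base z) = z :=
            fun z => congrArg (fun t : Y ⟶ Y => t z) hε'
          rwa [h3, h3] at h2
        rw [e2, e2, this]
      · exfalso
        have h1 : q'.base y ∈ (Set.range ε'.base)ᶜ := hr.le ⟨⟨y, hy⟩, rfl⟩
        rw [← hxy, hrε] at h1
        exact h1 ⟨x, hx, rfl⟩
    · by_cases hy : y ∈ Set.range j0.base
      · exfalso
        have h1 : q'.base x ∈ (Set.range ε'.base)ᶜ := hr.le ⟨⟨x, hx⟩, rfl⟩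
        rw [hxy, hrε] at h1
        exact h1 ⟨y, hy, rfl⟩
      · haveI := ho
        have h1 := (V0.ι ≫ q').isOpenEmbedding.injective (a₁ := ⟨x, hx⟩) (a₂ := ⟨y, hy⟩) hxy
        rw [show x = y from congrArg Subtype.val h1]
  obtain ⟨u, hu⟩ := hex q hfib
  refine ⟨u, ⟨(Groth.Agent.S3567.result q' hquot Y).1 _ _ ?_, hu⟩, fun v hv => huniq _ _ (hv.2.trans hu.symm)⟩
  rw [reassoc_of% hu, hqg, wq]

variable (u : (RelSpec.QCAlg.directImage (𝒮.toQCAlg.π ≫ p)).spec ⟶ C) (hu : q' ≫ u = q)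
  [IsProper q] (V0 : 𝒮.toQCAlg.spec.Opens) (hV0 : (V0 : Set 𝒮.toQCAlg.spec) = (Set.range j0.base)ᶜ)
  (hqo : IsOpenImmersion (V0.ι ≫ q)) (hqr : Set.range (V0.ι ≫ q).base = (Set.range ε.base)ᶜ)

theorem surjective_stalkMap_section {A B : Scheme.{u}} {s : A ⟶ B} {r : B ⟶ A} (h : s ≫ r = 𝟙 A) :
    SurjectiveOnStalks s := by
  haveI : SurjectiveOnStalks (s ≫ r) := by rw [h]; infer_instance
  exact SurjectiveOnStalks.of_comp s r

include hj h0 haug hj0 hL hamp hθ hq' hε hjq hu hV0 hqo hqr in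
theorem factor_facts :
    UniversallyClosed u ∧ Function.Surjective u.base ∧ UniversallyInjective u ∧
      (∀ c, Function.Surjective (u.residueFieldMap c).hom) ∧
      ∀ W : (RelSpec.QCAlg.directImage (𝒮.toQCAlg.π ≫ p)).spec.Opens,
        (W : Set (RelSpec.QCAlg.directImage (𝒮.toQCAlg.π ≫ p)).spec) = (q'.base '' Set.range j0.base)ᶜ →
        IsOpenImmersion (W.ι ≫ u) ∧ Set.range (W.ι ≫ u).base = (Set.range ε.base)ᶜ := by
  obtain ⟨hpr, hsurj, ho, ε', hε', hj', hrε, hr⟩ := canonical_facts p hj h0 haug hj0 hL hamp hθ q' wq hq' V0 hV0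
  haveI := hpr
  haveI := ho
  haveI := hqo
  haveI : Surjective q' := ⟨hsurj⟩
  haveI := hq'.isIso_c
  haveI : UniversallyClosed (q' ≫ u) := by rw [hu]; infer_instance
  have hUC : UniversallyClosed u := UniversallyClosed.of_comp_surjective q' u
  have hεu : ε' ≫ u = ε := by
    have hquot : Topology.IsQuotientMap p.base :=
      p.isClosedMap.isQuotientMap p.continuous (surjective_of_isIso_c p hθ)
    haveI : Surjective p := ⟨surjective_of_isIso_c p hθ⟩
    haveI := hθ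
    refine (Groth.Agent.S3567.result p hquot C).1 _ _ ?_
    rw [← reassoc_of% hj', hu, hjq]
  have hsu : Function.Surjective u.base := fun c => by
    by_cases hc : c ∈ Set.range ε.base
    · obtain ⟨y, rfl⟩ := hc
      exact ⟨ε'.base y, congrArg (fun t : Y ⟶ C => t y) hεu⟩
    · obtain ⟨v, rfl⟩ := hqr.ge hc
      refine ⟨q'.base v.1, ?_⟩
      exact congrArg (fun t : 𝒮.toQCAlg.spec ⟶ C => t v.1) hu
  have hW : ∀ W : (RelSpec.QCAlg.directImage (𝒮.toQCAlg.π ≫ p)).spec.Opens,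
        (W : Set (RelSpec.QCAlg.directImage (𝒮.toQCAlg.π ≫ p)).spec) = (q'.base '' Set.range j0.base)ᶜ →
        IsOpenImmersion (W.ι ≫ u) ∧ Set.range (W.ι ≫ u).base = (Set.range ε.base)ᶜ := by
    intro W hW
    have hrange : Set.range (V0.ι ≫ q').base = Set.range W.ι.base := by
      rw [Scheme.Opens.range_ι, hW, hr, hrε]
    let e := IsOpenImmersion.isoOfRangeEq (V0.ι ≫ q') W.ι hrange
    have he : W.ι ≫ u = e.inv ≫ V0.ι ≫ q := by
      rw [← hu, ← Category.assoc V0.ι, ← Category.assoc e.inv, IsOpenImmersion.isoOfRangeEq_inv_fac]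
    refine ⟨he ▸ inferInstance, ?_⟩
    rw [he, ← hqr]
    simp only [Scheme.Hom.comp_base, TopCat.coe_comp, Set.range_comp]
    rw [show Set.range e.inv.base = Set.univ from e.inv.homeomorph.surjective.range_eq, Set.image_univ,
      Set.range_comp]
  let W0 : (RelSpec.QCAlg.directImage (𝒮.toQCAlg.π ≫ p)).spec.Opens := (V0.ι ≫ q').opensRange
  have hW0 : (W0 : Set (RelSpec.QCAlg.directImage (𝒮.toQCAlg.π ≫ p)).spec) = (q'.base '' Set.range j0.base)ᶜ := by
    show Set.range (V0.ι ≫ q').base = _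
    rw [hr, hrε]
  obtain ⟨hWo, hWr⟩ := hW W0 hW0
  haveI := hWo
  have hres : ∀ c, Function.Surjective (u.residueFieldMap c).hom := by
    intro c
    have aux : ∀ {T : Scheme.{u}} (h : T ⟶ (RelSpec.QCAlg.directImage (𝒮.toQCAlg.π ≫ p)).spec)
        [SurjectiveOnStalks (h ≫ u)] (t : T), Function.Surjective (u.residueFieldMap (h.base t)).hom := by
      intro T h _ t
      have h1 : Function.Surjective ((h ≫ u).residueFieldMap t).hom := fun z => by
        obtain ⟨a, rfl⟩ := T.residue_surjective t z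
        obtain ⟨b, rfl⟩ := (h ≫ u).stalkMap_surjective t a
        exact ⟨(C.residue _).hom b, ConcreteCategory.congr_hom (Scheme.residue_residueFieldMap (h ≫ u) t) b⟩
      rw [Scheme.residueFieldMap_comp, CommRingCat.hom_comp] at h1
      intro r
      obtain ⟨r', hr'⟩ := h1 ((h.residueFieldMap t).hom r)
      exact ⟨r', (h.residueFieldMap t).hom.injective hr'⟩
    by_cases hc : c ∈ Set.range ε'.base
    · obtain ⟨y, rfl⟩ := hc
      haveI : SurjectiveOnStalks (ε' ≫ u) := by rw [hεu]; exact surjective_stalkMap_section hε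
      exact aux ε' y
    · have hcW : c ∈ W0 := hr.ge hc
      exact aux W0.ι ⟨c, hcW⟩
  refine ⟨hUC, hsu, ?_, hres, hW⟩
  have htfae : UniversallyInjective u ↔
      (Function.Injective u.base ∧ ∀ x, (u.residueFieldMap x).hom.IsPurelyInseparable) :=
    (tfae_universallyInjective u).out 0 2
  refine htfae.2 ⟨fun a b hab => ?_, fun c => ?_⟩
  · have heps : ∀ z, u.base (ε'.base z) = ε.base z := fun z => congrArg (fun t : Y ⟶ C => t z) hεu
    by_cases ha : a ∈ Set.range ε'.base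
    · by_cases hb : b ∈ Set.range ε'.base
      · obtain ⟨y, rfl⟩ := ha
        obtain ⟨y', rfl⟩ := hb
        rw [heps, heps] at hab
        have h2 := congrArg gC.base hab
        have h3 : ∀ z, gC.base (ε.base z) = z := fun z => congrArg (fun t : Y ⟶ Y => t z) hε
        rw [h3, h3] at h2
        rw [h2]
      · exfalso
        obtain ⟨y, rfl⟩ := ha
        exact hWr.le ⟨⟨b, hr.ge hb⟩, rfl⟩ ⟨y, ((heps y).symm.trans hab)⟩
    · by_cases hb : b ∈ Set.range ε'.base
      · exfalso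
        obtain ⟨y, rfl⟩ := hb
        exact hWr.le ⟨⟨a, hr.ge ha⟩, rfl⟩ ⟨y, ((heps y).symm.trans hab.symm)⟩
      · exact congrArg Subtype.val
          ((W0.ι ≫ u).isOpenEmbedding.injective (a₁ := ⟨a, hr.ge ha⟩) (a₂ := ⟨b, hr.ge hb⟩) hab)
  · letI := (u.residueFieldMap c).hom.toAlgebra
    show IsPurelyInseparable _ _
    refine isPurelyInseparable_iff.2 fun x => ?_
    obtain ⟨r, hr⟩ := hres c x
    exact ⟨hr ▸ isIntegral_algebraMap, fun _ => ⟨r, hr⟩⟩

include hj h0 haug hj0 hL hamp hθ hq' hε hjq hu hV0 hqo hqr in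
/-- Onto a normal scheme, the factor is an isomorphism. -/
theorem isIso_factor [IsIntegral 𝒮.toQCAlg.spec] [Nonempty V0] (hC : Pi1.IsNormalScheme C) : IsIso u := by
  obtain ⟨hUC, hsu, hUI, hres, hW⟩ := factor_facts p hj h0 haug hj0 hL hamp hθ q' wq hq' gC ε hε q hjq u hu V0 hV0 hqo hqr
  haveI := hUC
  haveI := hUI
  haveI : IsIntegral (RelSpec.QCAlg.directImage (𝒮.toQCAlg.π ≫ p)).spec := isIntegral_directImage (f := 𝒮.toQCAlg.π ≫ p)
  haveI : Nonempty C := Nonempty.map u.base inferInstance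
  haveI : IrreducibleSpace C := by
    refine (irreducibleSpace_def _).2 ?_
    show IsIrreducible (Set.univ : Set C)
    rw [← hsu.range_eq, ← Set.image_univ]
    exact (IrreducibleSpace.isIrreducible_univ _).image _ u.continuous.continuousOn
  haveI : ∀ c : C, _root_.IsReduced (C.presheaf.stalk c) := fun c => by
    haveI := (hC c).1; infer_instance
  haveI : IsReduced C := isReduced_of_isReduced_stalk C
  haveI : IsIntegral C := isIntegral_of_irreducibleSpace_of_isReduced C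
  refine Groth.Agent.S3568.result hC u ?_ ⟨RingHom.injective _, hres _⟩
  refine IsGenericPoint.eq ?_ (genericPoint_spec C)
  have hg := genericPoint_spec (RelSpec.QCAlg.directImage (𝒮.toQCAlg.π ≫ p)).spec
  have h2 := u.isClosedMap.closure_image_eq_of_continuous u.continuous
    {genericPoint (RelSpec.QCAlg.directImage (𝒮.toQCAlg.π ≫ p)).spec}
  rw [hg.def] at h2
  rw [IsGenericPoint, ← Set.image_singleton]
  refine h2.trans ?_
  exact Set.image_univ.trans hsu.range_eq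

end Groth.Agent.ContrCritLib
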