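import Groth.Agent.RelSpecLib.SymInv
import Groth.Agent.RelSpecLib.Basic
import Groth.Agent.InvExt.Main
import Groth.Agent.NormalSch.Basic
import Groth.Agent.RelProjLib.RLocPow

/-!
# Integrality and normality of line bundles, and of rings of functions on normal schemes
-/

set_option autoImplicit false
set_option linter.style.haveILetI false
set_option linter.unusedSectionVars false
set_option backward.isDefEq.respectTransparency false

universe u

open CategoryTheory CategoryTheory.Limits AlgebraicGeometry TopologicalSpace Opposite Polynomial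
open Groth.Agent.RelSpecLib Groth.Agent.ParaFLib

noncomputable section

namespace Groth.Agent.ContrCritLib

variable {X : Scheme.{u}} {L : X.Modules} [Coh.IsQCoh L] (𝒜 : RelSpec.QCAlg X) {jL : L ⟶ 𝒜.toModule}
  (hA : RelSpec.IsSymAlg L 𝒜 jL)

include hA in
/-- Over a trivialising affine open the algebra is a polynomial ring. -/
theorem bijective_eval₂_sym {W : X.Opens} (hW : IsAffineOpen W) {e : Γ(L, W)} (he : Gen W e) :
    Function.Bijective (Polynomial.eval₂RingHom (𝒜.str.app (op W)).hom (jsec 𝒜 jL e)) := by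
  have h : Polynomial.eval₂RingHom (𝒜.str.app (op W)).hom (jsec 𝒜 jL e) =
      (symEval 𝒜 jL W).comp
        (Polynomial.aeval (SymmetricAlgebra.ι Γ(X, W) Γ(L, W) e) : Γ(X, W)[X] →ₐ[Γ(X, W)] _).toRingHom := by
    refine Polynomial.ringHom_ext (fun r => ?_) ?_
    · rw [Polynomial.coe_eval₂RingHom, Polynomial.eval₂_C, RingHom.comp_apply]
      show _ = symEval _ jL W (Polynomial.aeval _ (C r))
      rw [Polynomial.aeval_C, symEval_algebraMap]
    · rw [Polynomial.coe_eval₂RingHom, Polynomial.eval₂_X, RingHom.comp_apply]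
      show _ = symEval _ jL W (Polynomial.aeval _ Polynomial.X)
      rw [Polynomial.aeval_X, symEval_ι]
  rw [h]
  exact (bijective_symEval L hA hW).comp (bijective_aeval_ι (bijective_smul_of_gen he))

variable (hL : PicF.IsInvertible L)

include hA hL in
theorem exists_chart {x : X} {O : X.Opens} (hx : x ∈ O) :
    ∃ (W : X.Opens) (_ : IsAffineOpen W) (_ : x ∈ W) (_ : W ≤ O), Nonempty (Polynomial Γ(X, W) ≃+* 𝒜.presheaf.obj (op W)) := by
  obtain ⟨W, hW, e, hxW, hWO, he⟩ := RelProjLib.exists_triv x hL hx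
  exact ⟨W, hW, hxW, hWO, ⟨RingEquiv.ofBijective _ (bijective_eval₂_sym 𝒜 hA hW he)⟩⟩

include hA hL in
theorem exists_integral_affine {x : X} {O : X.Opens} (hx : x ∈ O) (hO : IsIntegral (O : Scheme.{u})) :
    ∃ (W : X.Opens) (hW : IsAffineOpen W), x ∈ W ∧ W ≤ O ∧ IsDomain Γ(X, W) ∧
      IsDomain (𝒜.presheaf.obj (op W)) ∧ (Pi1.IsNormalScheme X → IsIntegrallyClosed (𝒜.presheaf.obj (op W))) := by
  obtain ⟨W, hW, hxW, hWO, ⟨e⟩⟩ := exists_chart 𝒜 hA hL hx
  haveI : Nonempty (W : Scheme.{u}) := ⟨⟨x, hxW⟩⟩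
  haveI := hO
  haveI : IsIntegral (W : Scheme.{u}) := isIntegral_of_isOpenImmersion (X.homOfLE hWO)
  haveI : IsAffine (W : Scheme.{u}) := hW
  haveI hd : IsDomain Γ(X, W) := W.topIso.commRingCatIsoToRingEquiv.symm.toMulEquiv.isDomain _
  refine ⟨W, hW, hxW, hWO, hd, e.symm.toMulEquiv.isDomain _, fun hN => ?_⟩
  haveI : IsIntegrallyClosed Γ((W : Scheme.{u}), ⊤) := by
    have hNW : Pi1.IsNormalScheme (W : Scheme.{u}) := fun w => by
      obtain ⟨h1, h2⟩ := hN (W.ι w)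
      haveI := h1; haveI := h2
      let E := (asIso (W.ι.stalkMap w)).commRingCatIsoToRingEquiv
      exact ⟨E.symm.toMulEquiv.isDomain _, IsIntegrallyClosed.of_equiv E⟩
    haveI : Nonempty (⊤ : (W : Scheme.{u}).Opens) := ⟨⟨⟨x, hxW⟩, trivial⟩⟩
    exact NormalSch.isIntegrallyClosed_section hNW ⊤
  haveI : IsIntegrallyClosed Γ(X, W) := IsIntegrallyClosed.of_equiv W.topIso.commRingCatIsoToRingEquiv
  exact IsIntegrallyClosed.of_equiv e

theorem isIntegral_opensRange {A B : Scheme.{u}} (h : A ⟶ B) [IsOpenImmersion h] [IsIntegral A] :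
    IsIntegral (h.opensRange : Scheme.{u}) :=
  haveI : Nonempty (h.opensRange : Scheme.{u}) := ⟨⟨h (Classical.arbitrary A), _, rfl⟩⟩
  isIntegral_of_isOpenImmersion h.isoOpensRange.inv

include hA hL in
theorem isIntegral_preimage {x : X} {O : X.Opens} (hx : x ∈ O) (hO : IsIntegral (O : Scheme.{u})) :
    ∃ (W : X.Opens), x ∈ W ∧ W ≤ O ∧ IsIntegral ((𝒜.π ⁻¹ᵁ W : 𝒜.spec.Opens) : Scheme.{u}) := by
  obtain ⟨W, hW, hxW, hWO, -, hd, -⟩ := exists_integral_affine 𝒜 hA hL hx hO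
  haveI := hd
  rw [show W = W from rfl] at hxW
  refine ⟨W, hxW, hWO, ?_⟩
  rw [𝒜.π_preimage W hW]
  exact isIntegral_opensRange _

include hA in
theorem surjective_π : Function.Surjective 𝒜.π.base := by
  obtain ⟨ψ, -, -⟩ := hA (RelSpec.QCAlg.unit X) 0
  intro x
  refine ⟨(RelSpecLib.lift 𝒜 (𝟙 X) ψ.hom).base x, ?_⟩
  exact congrArg (fun t : X ⟶ X => t x) (RelSpecLib.lift_π 𝒜 (𝟙 X) ψ.hom ψ.comm)

include hA hL in
theorem isIntegral_spec [IsIntegral X] : IsIntegral 𝒜.spec := by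
  haveI : Nonempty ((⊤ : X.Opens) : Scheme.{u}) := ⟨⟨Classical.arbitrary X, trivial⟩⟩
  have hT : IsIntegral ((⊤ : X.Opens) : Scheme.{u}) := isIntegral_of_isOpenImmersion (⊤ : X.Opens).ι
  choose W hxW _ hW using fun x : X => isIntegral_preimage 𝒜 hA hL (x := x) (O := ⊤) trivial hT
  have hsurj := surjective_π 𝒜 hA
  haveI : Nonempty 𝒜.spec := ⟨(hsurj (Classical.arbitrary X)).choose⟩
  haveI : IsReduced 𝒜.spec := by
    haveI : ∀ v : 𝒜.spec, _root_.IsReduced (𝒜.spec.presheaf.stalk v) := fun v => by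
      haveI := hW (𝒜.π v)
      exact isReduced_of_injective ((Scheme.Hom.stalkMap (𝒜.π ⁻¹ᵁ W (𝒜.π v)).ι ⟨v, hxW (𝒜.π v)⟩)).hom
        (ConcreteCategory.bijective_of_isIso _).1
    exact isReduced_of_isReduced_stalk _
  have hirr : ∀ x, IsIrreducible ((𝒜.π ⁻¹ᵁ W x : 𝒜.spec.Opens) : Set 𝒜.spec) := fun x => by
    haveI := hW x
    rw [← (𝒜.π ⁻¹ᵁ W x).range_ι, ← Set.image_univ]
    exact (IrreducibleSpace.isIrreducible_univ _).image _ (𝒜.π ⁻¹ᵁ W x).ι.continuous.continuousOn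
  haveI : IrreducibleSpace 𝒜.spec := by
    refine { toPreirreducibleSpace := ⟨?_⟩, toNonempty := inferInstance }
    rintro O₁ O₂ h₁ h₂ ⟨v₁, -, hv₁⟩ ⟨v₂, -, hv₂⟩
    obtain ⟨x, hx⟩ := nonempty_preirreducible_inter (W (𝒜.π v₁)).2 (W (𝒜.π v₂)).2 ⟨_, hxW _⟩ ⟨_, hxW _⟩
    obtain ⟨v, rfl⟩ := hsurj x
    obtain ⟨z, hz1, hz2, hz3⟩ := (hirr (𝒜.π v₁)).2 O₁ ((𝒜.π ⁻¹ᵁ W (𝒜.π v₂)) : Set 𝒜.spec) h₁ (𝒜.π ⁻¹ᵁ W (𝒜.π v₂)).2
      ⟨v₁, hxW _, hv₁⟩ ⟨v, hx.1, hx.2⟩
    obtain ⟨z', hz1', hz2', hz3'⟩ := (hirr (𝒜.π v₂)).2 O₁ O₂ h₁ h₂ ⟨z, hz3, hz2⟩ ⟨v₂, hxW _, hv₂⟩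
    exact ⟨z', trivial, hz2', hz3'⟩
  exact isIntegral_of_irreducibleSpace_of_isReduced _

include hA hL in
theorem isLocallyIntegral_spec (hX : ∀ x : X, ∃ U : X.Opens, x ∈ U ∧ IsIntegral (U : Scheme.{u})) (v : 𝒜.spec) :
    ∃ O : 𝒜.spec.Opens, v ∈ O ∧ IsIntegral (O : Scheme.{u}) := by
  obtain ⟨U, hxU, hU⟩ := hX (𝒜.π v)
  obtain ⟨W, hxW, -, hW⟩ := isIntegral_preimage 𝒜 hA hL hxU hU
  exact ⟨_, hxW, hW⟩

include hA hL in
theorem isNormalScheme_spec (hX : ∀ x : X, ∃ U : X.Opens, x ∈ U ∧ IsIntegral (U : Scheme.{u}))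
    (hN : Pi1.IsNormalScheme X) : Pi1.IsNormalScheme 𝒜.spec := by
  intro v
  obtain ⟨U, hxU, hU⟩ := hX (𝒜.π v)
  obtain ⟨W, hW, hxW, -, -, hd, hn⟩ := exists_integral_affine 𝒜 hA hL hxU hU
  haveI := hd
  haveI := hn hN
  obtain ⟨P, rfl⟩ : v ∈ (𝒜.ι W hW).opensRange := by rw [← 𝒜.π_preimage W hW]; exact hxW
  let E : 𝒜.spec.presheaf.stalk (𝒜.ι W hW P) ≃+* Localization.AtPrime P.asIdeal :=
    (asIso (Scheme.Hom.stalkMap (𝒜.ι W hW) P)).commRingCatIsoToRingEquiv.trans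
      (StructureSheaf.stalkIso (𝒜.presheaf.obj (op W)) P).symm.toRingEquiv
  haveI : IsDomain (Localization.AtPrime P.asIdeal) :=
    IsLocalization.isDomain_localization (Ideal.primeCompl_le_nonZeroDivisors _)
  haveI : IsIntegrallyClosed (Localization.AtPrime P.asIdeal) :=
    isIntegrallyClosed_of_isLocalization _ P.asIdeal.primeCompl (Ideal.primeCompl_le_nonZeroDivisors _)
  exact ⟨E.toMulEquiv.isDomain _, IsIntegrallyClosed.of_equiv E.symm⟩

/-! ### Rings of functions on locally integral normal schemes -/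

variable {V : Scheme.{u}}

theorem exists_component_idempotent (hV : ∀ v : V, ∃ O : V.Opens, v ∈ O ∧ IsIntegral (O : Scheme.{u}))
    (O : V.Opens) (hO : IsCompact (O : Set V)) (P : Ideal Γ(V, O)) [P.IsPrime] :
    ∃ e : Γ(V, O), e ∉ P ∧ IsIntegral (V.basicOpen e : Scheme.{u}) := by
  classical
  have hV' : ∀ v : O, ∃ W : V.Opens, v.1 ∈ W ∧ W ≤ O ∧ IsIntegral (W : Scheme.{u}) := fun v => by
    obtain ⟨W, hvW, hW⟩ := hV v.1
    haveI := hW
    haveI : Nonempty ((W ⊓ O : V.Opens) : Scheme.{u}) := ⟨⟨v.1, hvW, v.2⟩⟩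
    exact ⟨W ⊓ O, ⟨hvW, v.2⟩, inf_le_right, isIntegral_of_isOpenImmersion (V.homOfLE inf_le_left)⟩
  choose W hvW hWO hW using hV'
  let η : O → V := fun v => haveI := hW v; (W v).ι (genericPoint (W v : Scheme.{u}))
  have hgen : ∀ (v : O) (U : V.Opens) (z : V), z ∈ W v → z ∈ U → η v ∈ U := fun v U z hz hzU => by
    haveI := hW v
    exact ((genericPoint_specializes (α := ↥(W v : Scheme.{u})) ⟨z, hz⟩).map (W v).ι.continuous).mem_open U.2 hzU
  have hloc : ∀ (v : O) (z : O), z.1 ∈ W v → η z = η v := fun v z hz => by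
    have h1 : η z ∈ W v := hgen z (W v) z.1 (hvW z) hz
    have h2 : η v ∈ W z := hgen v (W z) z.1 hz (hvW z)
    have e1 : η v ⤳ η z := by
      haveI := hW v
      exact (genericPoint_specializes (α := ↥(W v : Scheme.{u})) ⟨η z, h1⟩).map (W v).ι.continuous
    have e2 : η z ⤳ η v := by
      haveI := hW z
      exact (genericPoint_specializes (α := ↥(W z : Scheme.{u})) ⟨η v, h2⟩).map (W z).ι.continuous
    exact (e2.antisymm e1).eq
  obtain ⟨t, ht⟩ := hO.elim_finite_subcover (fun v : O => (W v : Set V)) (fun v => (W v).2)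
    fun y hy => Set.mem_iUnion.2 ⟨⟨y, hy⟩, hvW _⟩
  let T := t.image η
  let piece : V → V.Opens := fun c => ⨆ v : {v : O // η v = c}, W v.1
  have hpiece : ∀ (c : V) (z : O), z.1 ∈ piece c ↔ η z = c := fun c z => by
    refine ⟨fun h => ?_, fun h => Opens.mem_iSup.2 ⟨⟨z, h⟩, hvW z⟩⟩
    obtain ⟨v, hv⟩ := Opens.mem_iSup.1 h
    exact (hloc v.1 z hv).trans v.2
  have hpO : ∀ c, piece c ≤ O := fun c => iSup_le fun v => hWO v.1
  let other : V → V.Opens := fun c => ⨆ v : {v : O // η v ≠ c}, W v.1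
  have hdisj : ∀ c, piece c ⊓ other c = ⊥ := fun c => eq_bot_iff.2 fun y hy => by
    obtain ⟨v, hv⟩ := Opens.mem_iSup.1 hy.2
    exact v.2 ((hloc v.1 ⟨y, hpO c hy.1⟩ hv).symm.trans ((hpiece c ⟨y, hpO c hy.1⟩).1 hy.1))
  have hex : ∀ c, ∃ e : Γ(V, O), V.presheaf.map (homOfLE (hpO c)).op e = 1 ∧
      V.presheaf.map (homOfLE (iSup_le fun v => hWO v.1 : other c ≤ O)).op e = 0 := fun c => by
    let U : Bool → V.Opens := fun b => bif b then piece c else other c
    have hU : ∀ b, U b ≤ O := fun b => by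
      cases b
      · exact iSup_le fun v => hWO v.1
      · exact hpO c
    let sf : ∀ b, Γ(V, U b) := fun b => Bool.rec (motive := fun b => Γ(V, U b)) 0 1 b
    have hsub : ∀ D : V.Opens, D = ⊥ → Subsingleton Γ(V, D) := by rintro D rfl; infer_instance
    have hc : TopCat.Presheaf.IsCompatible V.presheaf U sf := fun a b => by
      match a, b with
      | true, true => rfl
      | false, false => rfl
      | true, false => exact @Subsingleton.elim _ (hsub _ (hdisj c)) _ _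
      | false, true => exact @Subsingleton.elim _ (hsub _ ((inf_comm _ _).trans (hdisj c))) _ _
    obtain ⟨e, he, -⟩ := V.sheaf.existsUnique_gluing' U O (fun b => homOfLE (hU b)) (fun y hy => by
      by_cases h : η ⟨y, hy⟩ = c
      · exact Opens.mem_iSup.2 ⟨true, (hpiece c ⟨y, hy⟩).2 h⟩
      · exact Opens.mem_iSup.2 ⟨false, Opens.mem_iSup.2 ⟨⟨⟨y, hy⟩, h⟩, hvW _⟩⟩) sf hc
    exact ⟨e, he true, he false⟩
  choose e he1 he0 using hex
  have hbasic : ∀ c, V.basicOpen (e c) = piece c := fun c => by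
    refine le_antisymm (fun y hy => ?_) fun y hy => ?_
    · by_contra h
      have hyO := V.basicOpen_le _ hy
      have h' : y ∈ other c := Opens.mem_iSup.2 ⟨⟨⟨y, hyO⟩, fun h2 => h ((hpiece c ⟨y, hyO⟩).2 h2)⟩, hvW _⟩
      have h2 : y ∈ other c ⊓ V.basicOpen (e c) := ⟨h', hy⟩
      rw [← Scheme.basicOpen_res _ _ (homOfLE (iSup_le fun v => hWO v.1 : other c ≤ O)).op, he0, Scheme.basicOpen_zero] at h2
      exact h2
    · have h2 : y ∈ V.basicOpen (1 : Γ(V, piece c)) := by rw [V.basicOpen_of_isUnit isUnit_one]; exact hy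
      rw [← he1 c, Scheme.basicOpen_res] at h2
      exact h2.2
  have hprod : ∏ c ∈ T, (1 - e c) = 0 := by
    refine TopCat.Sheaf.eq_of_locally_eq' V.sheaf piece O (fun c => homOfLE (hpO c))
      (fun y hy => Opens.mem_iSup.2 ⟨η ⟨y, hy⟩, (hpiece _ ⟨y, hy⟩).2 rfl⟩) _ _ fun c => ?_
    refine Eq.trans ?_ (map_zero _).symm
    show V.presheaf.map (homOfLE (hpO c)).op _ = 0
    by_cases hc : c ∈ T
    · rw [map_prod]
      exact Finset.prod_eq_zero hc (by rw [map_sub, map_one, he1, sub_self])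
    · have hbot : piece c = ⊥ := eq_bot_iff.2 fun y hy => by
        obtain ⟨v, hv, hyv⟩ := Set.mem_iUnion₂.1 (ht (hpO c hy))
        exact hc (Finset.mem_image.2 ⟨v, hv, (hloc v ⟨y, hpO c hy⟩ hyv).symm.trans ((hpiece c _).1 hy)⟩)
      have hsub : ∀ D : V.Opens, D = ⊥ → Subsingleton Γ(V, D) := by rintro D rfl; infer_instance
      exact @Subsingleton.elim _ (hsub _ hbot) _ _
  obtain ⟨c, hcT, hc⟩ : ∃ c ∈ T, e c ∉ P := by
    by_contra h
    push Not at h
    obtain ⟨c, hc, hcP⟩ := (Ideal.IsPrime.prod_mem_iff).1 (hprod ▸ P.zero_mem : ∏ c ∈ T, (1 - e c) ∈ P)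
    exact Ideal.IsPrime.one_notMem ‹_› (by simpa using P.add_mem hcP (h c hc))
  refine ⟨e c, hc, ?_⟩
  obtain ⟨v, -, rfl⟩ := Finset.mem_image.1 hcT
  rw [hbasic]
  have hirr : IsIrreducible ((piece (η v) : V.Opens) : Set V) := by
    refine ⟨⟨v.1, (hpiece _ v).2 rfl⟩, fun A B hA hB ⟨a, ha, haA⟩ ⟨b, hb, hbB⟩ => ?_⟩
    have key : ∀ (U : Set V), IsOpen U → ∀ y, y ∈ piece (η v) → y ∈ U → η v ∈ U := fun U hU y hy hyU => by
      obtain ⟨⟨z, hz⟩, hyz⟩ := Opens.mem_iSup.1 hy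
      exact hz ▸ hgen z ⟨U, hU⟩ y hyz hyU
    exact ⟨η v, key _ (piece (η v)).2 v.1 ((hpiece _ v).2 rfl) ((hpiece _ v).2 rfl), key A hA a ha haA, key B hB b hb hbB⟩
  haveI : IrreducibleSpace (piece (η v) : Scheme.{u}) := by
    haveI : PreirreducibleSpace (piece (η v) : Scheme.{u}) :=
      Subtype.preirreducibleSpace hirr.2
    exact { toNonempty := ⟨⟨v.1, (hpiece _ v).2 rfl⟩⟩ }
  haveI : IsReduced (piece (η v) : Scheme.{u}) := by
    haveI : ∀ y : (piece (η v) : Scheme.{u}), _root_.IsReduced ((piece (η v) : Scheme.{u}).presheaf.stalk y) := fun y => by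
      obtain ⟨⟨z, hz⟩, hyz⟩ := Opens.mem_iSup.1 y.2
      haveI := hW z
      haveI : _root_.IsReduced (V.presheaf.stalk y.1) :=
        isReduced_of_injective ((W z).ι.stalkMap ⟨y.1, hyz⟩).hom (ConcreteCategory.bijective_of_isIso _).1
      haveI : _root_.IsReduced (V.presheaf.stalk ((piece (η v)).ι y)) := ‹_root_.IsReduced (V.presheaf.stalk y.1)›
      exact isReduced_of_injective (inv ((piece (η v)).ι.stalkMap y)).hom (ConcreteCategory.bijective_of_isIso _).1
    exact isReduced_of_isReduced_stalk _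
  exact isIntegral_of_irreducibleSpace_of_isReduced _

/-- Localisations of the ring of functions on a compact open of a locally integral normal scheme are normal domains. -/
theorem normal_localization_sections (hV : ∀ v : V, ∃ O : V.Opens, v ∈ O ∧ IsIntegral (O : Scheme.{u}))
    (hN : Pi1.IsNormalScheme V) (O : V.Opens) (hO : IsCompact (O : Set V))
    (hqs : IsQuasiSeparated (O : Set V)) (P : Ideal Γ(V, O)) [P.IsPrime] :
    IsDomain (Localization.AtPrime P) ∧ IsIntegrallyClosed (Localization.AtPrime P) := by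
  obtain ⟨e, he, hint⟩ := exists_component_idempotent hV O hO P
  haveI := hint
  let D := V.basicOpen e
  have hND : Pi1.IsNormalScheme (D : Scheme.{u}) := fun w => by
    obtain ⟨h1, h2⟩ := hN (D.ι w)
    haveI := h1; haveI := h2
    let E := (asIso (D.ι.stalkMap w)).commRingCatIsoToRingEquiv
    exact ⟨E.symm.toMulEquiv.isDomain _, IsIntegrallyClosed.of_equiv E⟩
  haveI : IsDomain Γ(V, D) := D.topIso.commRingCatIsoToRingEquiv.symm.toMulEquiv.isDomain _
  haveI : IsIntegrallyClosed Γ(V, D) := by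
    haveI : Nonempty (⊤ : (D : Scheme.{u}).Opens) := ⟨⟨genericPoint (D : Scheme.{u}), trivial⟩⟩
    haveI := NormalSch.isIntegrallyClosed_section hND ⊤
    exact IsIntegrallyClosed.of_equiv D.topIso.commRingCatIsoToRingEquiv
  letI : Algebra Γ(V, O) Γ(V, D) := (V.presheaf.map (homOfLE (V.basicOpen_le e)).op).hom.toAlgebra
  haveI : IsLocalization.Away e Γ(V, D) := isLocalization_basicOpen_of_qcqs hO hqs e
  have hle : Submonoid.powers e ≤ P.primeCompl := Submonoid.powers_le.2 he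
  letI : Algebra Γ(V, D) (Localization.AtPrime P) :=
    IsLocalization.localizationAlgebraOfSubmonoidLe Γ(V, D) (Localization.AtPrime P) (Submonoid.powers e) P.primeCompl hle
  haveI : IsScalarTower Γ(V, O) Γ(V, D) (Localization.AtPrime P) :=
    IsLocalization.localization_isScalarTower_of_submonoid_le Γ(V, D) (Localization.AtPrime P) (Submonoid.powers e) P.primeCompl hle
  haveI : IsLocalization (P.primeCompl.map (algebraMap Γ(V, O) Γ(V, D))) (Localization.AtPrime P) :=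
    IsLocalization.isLocalization_of_submonoid_le Γ(V, D) (Localization.AtPrime P) (Submonoid.powers e) P.primeCompl hle
  have hnz : P.primeCompl.map (algebraMap Γ(V, O) Γ(V, D)) ≤ nonZeroDivisors Γ(V, D) := by
    rintro _ ⟨x, hx, rfl⟩
    refine mem_nonZeroDivisors_of_ne_zero fun h => ?_
    obtain ⟨⟨_, k, rfl⟩, hk⟩ := (IsLocalization.map_eq_zero_iff (Submonoid.powers e) Γ(V, D) x).1 h
    have : e ^ k * x ∈ P := hk.symm ▸ P.zero_mem
    rcases Ideal.IsPrime.mem_or_mem ‹_› this with h1 | h1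
    · exact he (Ideal.IsPrime.mem_of_pow_mem ‹_› k h1)
    · exact hx h1
  exact ⟨IsLocalization.isDomain_of_le_nonZeroDivisors (Localization.AtPrime P) hnz,
    isIntegrallyClosed_of_isLocalization (Localization.AtPrime P) _ hnz⟩

end Groth.Agent.ContrCritLib
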