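import Groth.Agent.ContrCritLib.Cone
import Groth.Agent.InvExt.Main

/-!
# Ampleness and contraction of the zero section
-/

set_option autoImplicit false
set_option linter.style.haveILetI false
set_option linter.unusedSectionVars false
set_option backward.isDefEq.respectTransparency false

universe u

open CategoryTheory CategoryTheory.Limits AlgebraicGeometry TopologicalSpace Opposite
open Groth.Agent.RelSpecLib Groth.Agent.RelProjLib Groth.Agent.ParaFLib Groth.Agent.AmpleLib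

noncomputable section

namespace Groth.Agent.ContrCritLib

variable {X Y : Scheme.{u}} (p : X ⟶ Y) [QuasiCompact p]
  {L : X.Modules} [Coh.IsQCoh L] {𝒮 : RelProj.QCGrAlg X} {jL : L ⟶ 𝒮.toModule}
  (hj : RelProj.IsGrSymAlg L 𝒮 jL)
  {aug : 𝒮.toQCAlg ⟶ RelSpec.QCAlg.unit X} (h0 : RelCone.StrZeroBij 𝒮) (haug : RelCone.IsAugmentation 𝒮 aug)
  {j0 : X ⟶ 𝒮.toQCAlg.spec} (hj0 : RelCone.IsVertex 𝒮 aug j0)
  (hL : PicF.IsInvertible L)
  (V0 : 𝒮.toQCAlg.spec.Opens) (hV0 : (V0 : Set 𝒮.toQCAlg.spec) = (Set.range j0.base)ᶜ)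

include hj h0 haug hj0 hL hV0 in
/-- The existence of a contraction makes the module ample. -/
theorem isRelAmple_of_contraction {C : Scheme.{u}} (ε : Y ⟶ C) (q : 𝒮.toQCAlg.spec ⟶ C)
    (hjq : j0 ≫ q = p ≫ ε) (ho : IsOpenImmersion (V0.ι ≫ q))
    (hdisj : Set.range (V0.ι ≫ q).base ∩ Set.range ε.base = ∅) : RelAmple.IsRelAmple p L := by
  haveI := ho
  refine isRelAmple_of_locally fun y => ?_
  obtain ⟨WC, hWC, hyW, -⟩ := exists_isAffineOpen_mem_and_subset (U := (⊤ : C.Opens)) (show ε y ∈ (⊤ : C.Opens) from trivial)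
  obtain ⟨U, hU, hyU, hUW⟩ := exists_isAffineOpen_mem_and_subset (U := ε ⁻¹ᵁ WC) (show y ∈ ε ⁻¹ᵁ WC from hyW)
  refine ⟨U, hU, hyU, ampleOn_of_small hj hL (p.isCompact_preimage hU.isCompact) fun x hx N hxN => ?_⟩
  obtain ⟨W, hW, e, hxW, hWO, he⟩ := exists_triv x hL hx
  let G := q ⁻¹ᵁ WC
  have hG : ∀ v ∈ Set.range j0.base, 𝒮.toQCAlg.π v ∈ p ⁻¹ᵁ U → v ∈ G := by
    rintro _ ⟨x', rfl⟩ hx'
    have h1 : 𝒮.toQCAlg.π (j0 x') = x' := congrArg (fun t : X ⟶ X => t x') hj0.comp_π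
    rw [h1] at hx'
    show q (j0 x') ∈ WC
    rw [show q (j0 x') = ε (p x') from congrArg (fun t : X ⟶ C => t x') hjq]
    exact hUW hx'
  set v := arcMor hj hW he hxW arcGeneric with hv
  have hvG : v ∈ G := top_le_arcMor hj h0 haug hj0 hW he hxW
    (fun v hv hπ => hG v hv (hπ ▸ hx)) (x := arcGeneric) trivial
  have hvπ : 𝒮.toQCAlg.π v = x := π_arcMor_eq hj hW he hxW _
  have hv0 : v ∈ V0 := by
    rw [← SetLike.mem_coe, hV0]; exact arcGeneric_not_mem_range hj h0 haug hj0 hW he hxW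
  let U0 : C.Opens := (V0.ι ≫ q) ''ᵁ (V0.ι ⁻¹ᵁ (𝒮.toQCAlg.π ⁻¹ᵁ N))
  have hc : q v ∈ U0 ⊓ WC := ⟨⟨⟨v, hv0⟩, show 𝒮.toQCAlg.π v ∈ N by rw [hvπ]; exact hxN, rfl⟩, hvG⟩
  obtain ⟨h, hh, hch⟩ := hWC.exists_basicOpen_le (V := U0 ⊓ WC) ⟨q v, hc⟩ hc.2
  let Ψ : Γ(𝒮.toQCAlg.spec, G) := q.app WC h
  have hΨ : ∀ w ∈ 𝒮.toQCAlg.spec.basicOpen Ψ, 𝒮.toQCAlg.π w ∈ N ∧ w ∉ Set.range j0.base := by
    intro w hw
    rw [show 𝒮.toQCAlg.spec.basicOpen Ψ = q ⁻¹ᵁ C.basicOpen h from (Scheme.preimage_basicOpen q h).symm] at hw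
    obtain ⟨⟨v', hv'⟩, hv'N, hv'q⟩ := (hh hw).1
    by_cases hw0 : w ∈ V0
    · have h1 : (⟨v', hv'⟩ : V0) = ⟨w, hw0⟩ := (V0.ι ≫ q).isOpenEmbedding.injective hv'q
      obtain rfl : v' = w := congrArg Subtype.val h1
      rw [← SetLike.mem_coe, hV0] at hw0
      exact ⟨hv'N, hw0⟩
    · exfalso
      rw [← SetLike.mem_coe, hV0, Set.mem_compl_iff, not_not] at hw0
      obtain ⟨x', rfl⟩ := hw0
      refine Set.eq_empty_iff_forall_notMem.1 hdisj (q (j0 x')) ⟨⟨⟨v', hv'⟩, hv'q⟩, ⟨p x', ?_⟩⟩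
      exact (congrArg (fun t : X ⟶ C => t x') hjq).symm
  refine exists_small_of_function hj h0 haug hj0 hL hG Ψ hΨ hW hWO he hxW ?_
  rw [show 𝒮.toQCAlg.spec.basicOpen Ψ = q ⁻¹ᵁ C.basicOpen h from (Scheme.preimage_basicOpen q h).symm]
  exact hch

variable [QuasiSeparated p]

include hj h0 haug hj0 hL in
theorem exists_locus (hamp : RelAmple.IsRelAmple p L) {U : Y.Opens} (hU : IsAffineOpen U) {x : X}
    (hx : x ∈ p ⁻¹ᵁ U) :
    ∃ (n : ℕ) (_ : 0 < n) (a : 𝒮.presheaf.obj (op (p ⁻¹ᵁ U))),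
      HomSec a n ∧ x ∈ nv a n ∧ IsAffineOpen (nv a n) ∧
        j0.appLE (𝒮.toQCAlg.π ⁻¹ᵁ (p ⁻¹ᵁ U)) (p ⁻¹ᵁ U)
          (preimage_le 𝒮.toQCAlg (𝟙 X) hj0.comp_π (p ⁻¹ᵁ U)) (toFn a) = 0 := by
  obtain ⟨n, hn, a, ha, hxa, -, haff⟩ := exists_small_nv hj hL (hamp.2 ⟨U, hU⟩) hx (N := ⊤) trivial
  exact ⟨n, hn, a, ha, hxa, haff, (j0_toFn hj0 a _).trans (aug_homSec haug hn a ha)⟩

theorem comp_eq {j0 : X ⟶ 𝒮.toQCAlg.spec} (h : j0 ≫ 𝒮.toQCAlg.π = 𝟙 X) : j0 ≫ 𝒮.toQCAlg.π ≫ p = p := by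
  rw [reassoc_of% h]

/-- The contraction scheme. -/
abbrev contrScheme : Scheme.{u} := pinch (𝒮.toQCAlg.π ≫ p) p j0 (comp_eq p hj0.comp_π)

/-- The structure map of the contraction scheme. -/
abbrev contrπ : contrScheme p hj0 ⟶ Y := (pairAlg (𝒮.toQCAlg.π ≫ p) p j0 (comp_eq p hj0.comp_π)).π

/-- Its section. -/
abbrev contrε : Y ⟶ contrScheme p hj0 := sect (𝒮.toQCAlg.π ≫ p) p j0 (comp_eq p hj0.comp_π)

/-- The contraction. -/
abbrev contrq : 𝒮.toQCAlg.spec ⟶ contrScheme p hj0 := contr (𝒮.toQCAlg.π ≫ p) p j0 (comp_eq p hj0.comp_π)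

include hj h0 haug hj0 hL hV0 in
theorem contraction_of_isRelAmple (hamp : RelAmple.IsRelAmple p L) :
    IsOpenImmersion (V0.ι ≫ contrq p hj0) ∧
      Set.range (V0.ι ≫ contrq p hj0).base ∩ Set.range (contrε p hj0).base = ∅ := by
  refine isOpenImmersion_contr _ p j0 _ V0 hV0 fun v hv => ?_
  obtain ⟨U, hU, hyU, -⟩ := exists_isAffineOpen_mem_and_subset (U := (⊤ : Y.Opens))
    (show p (𝒮.toQCAlg.π v) ∈ (⊤ : Y.Opens) from trivial)
  obtain ⟨n, hn, a, ha, hxa, haff, hzero⟩ := exists_locus p hj h0 haug hj0 hL hamp hU (x := 𝒮.toQCAlg.π v) hyU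
  refine ⟨U, hU, toFn a, hzero, ?_, isAffineOpen_basicOpen_toFn hj h0 haug hj0 hL hn a ha haff⟩
  refine (mem_basicOpen_toFn hj h0 haug hj0 hL hn a ha v).2 ⟨hxa, ?_⟩
  rw [← SetLike.mem_coe, hV0] at hv
  exact hv

include hj h0 haug hj0 hL hV0 in
theorem quasiCompact_contr : QuasiCompact (V0.ι ≫ contrq p hj0) := by
  haveI : QuasiCompact V0.ι := by
    have hcov : ∀ x : X, ∃ (W : X.Opens) (e : Γ(L, W)), x ∈ W ∧ IsAffineOpen W ∧ Gen W e := fun x => by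
      obtain ⟨W, hW, e, hxW, -, he⟩ := exists_triv x hL (O := ⊤) trivial
      exact ⟨W, e, hxW, hW, he⟩
    choose W e hxW hW he using hcov
    refine IsZariskiLocalAtTarget.of_iSup_eq_top (P := @QuasiCompact) (fun x => 𝒮.toQCAlg.π ⁻¹ᵁ W x)
      (eq_top_iff.2 fun v _ => Opens.mem_iSup.2 ⟨𝒮.toQCAlg.π v, hxW _⟩) fun x => ?_
    let s := toFn (gen₁ (hW x) hj (e x)).1
    have hs : V0 ⊓ 𝒮.toQCAlg.π ⁻¹ᵁ W x = 𝒮.toQCAlg.spec.basicOpen s := by
      refine le_antisymm (fun v hv => ?_) fun v hv => ?_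
      · obtain ⟨P, rfl⟩ := exists_ι_eq (hW x) hv.2
        have hv1 : 𝒮.toQCAlg.ι (W x) (hW x) P ∉ Set.range j0.base := by
          exact hV0.le hv.1
        show P ∈ 𝒮.toQCAlg.ι (W x) (hW x) ⁻¹ᵁ 𝒮.toQCAlg.spec.basicOpen s
        rw [ι_preimage_basicOpen, gammaAff_toFn]
        exact (vertexCompl_iff hj (hW x) (he x) P).1 ((ι_not_mem_range_iff h0 haug hj0 (hW x) P).1 hv1)
      · have hvW : v ∈ 𝒮.toQCAlg.π ⁻¹ᵁ W x := 𝒮.toQCAlg.spec.basicOpen_le _ hv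
        obtain ⟨P, rfl⟩ := exists_ι_eq (hW x) hvW
        have hv' : P ∈ 𝒮.toQCAlg.ι (W x) (hW x) ⁻¹ᵁ 𝒮.toQCAlg.spec.basicOpen s := hv
        rw [ι_preimage_basicOpen, gammaAff_toFn] at hv'
        refine ⟨hV0.ge ?_, hvW⟩
        exact (ι_not_mem_range_iff h0 haug hj0 (hW x) P).2 ((vertexCompl_iff hj (hW x) (he x) P).2 hv')
    have hA : IsAffineOpen (V0 ⊓ 𝒮.toQCAlg.π ⁻¹ᵁ W x) := hs ▸ ((hW x).preimage _).basicOpen s
    haveI : IsAffine ((𝒮.toQCAlg.π ⁻¹ᵁ W x : 𝒮.toQCAlg.spec.Opens) : Scheme.{u}) := (hW x).preimage _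
    rw [quasiCompact_iff_compactSpace]
    refine isCompact_iff_compactSpace.1 ?_
    rw [V0.ι.isOpenEmbedding.isInducing.isCompact_iff]
    show IsCompact ((V0.ι ''ᵁ (V0.ι ⁻¹ᵁ (𝒮.toQCAlg.π ⁻¹ᵁ W x)) : 𝒮.toQCAlg.spec.Opens) : Set 𝒮.toQCAlg.spec)
    rw [Scheme.Hom.image_preimage_eq_opensRange_inf, Scheme.Opens.opensRange_ι]
    exact hA.isCompact
  haveI : QuasiCompact ((V0.ι ≫ contrq p hj0) ≫ contrπ p hj0) := by
    rw [Category.assoc, contr_π]; infer_instance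
  exact QuasiCompact.of_comp _ (contrπ p hj0)


include hj hL in
theorem locallyOfFiniteType_π : LocallyOfFiniteType 𝒮.toQCAlg.π := by
  have hcov : ∀ x : X, ∃ (W : X.Opens) (e : Γ(L, W)), x ∈ W ∧ IsAffineOpen W ∧ Gen W e := fun x => by
    obtain ⟨W, hW, e, hxW, -, he⟩ := exists_triv x hL (O := ⊤) trivial
    exact ⟨W, e, hxW, hW, he⟩
  choose W e hxW hW he using hcov
  refine IsZariskiLocalAtTarget.of_iSup_eq_top (P := @LocallyOfFiniteType) W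
    (eq_top_iff.2 fun x _ => Opens.mem_iSup.2 ⟨x, hxW x⟩) fun x => ?_
  haveI : IsAffine (W x : Scheme.{u}) := hW x
  haveI : IsAffine ((𝒮.toQCAlg.π ⁻¹ᵁ W x : 𝒮.toQCAlg.spec.Opens) : Scheme.{u}) := (hW x).preimage _
  rw [HasRingHomProperty.iff_of_isAffine (P := @LocallyOfFiniteType), morphismRestrict_appTop]
  have h1 : RingHom.FiniteType (𝒮.str.app (op (W x))).hom := by
    letI := (𝒮.str.app (op (W x))).hom.toAlgebra
    show Algebra.FiniteType Γ(X, W x) (𝒮.presheaf.obj (op (W x)))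
    exact Algebra.FiniteType.of_surjective
      (Polynomial.aeval (gen₁ (hW x) hj (e x)).1 : Polynomial Γ(X, W x) →ₐ[Γ(X, W x)] _) (bijective_eval₂ (hW x) hj (he x)).2
  haveI := SpecQCAlg.isIso_gammaAff 𝒮.toQCAlg (W x) (hW x)
  have h2 : RingHom.FiniteType (𝒮.toQCAlg.π.app (W x)).hom := by
    have e1 : 𝒮.toQCAlg.π.app (W x) = 𝒮.str.app (op (W x)) ≫ inv (𝒮.toQCAlg.gammaAff (W x) (hW x)) := by
      rw [IsIso.eq_comp_inv, 𝒮.toQCAlg.π_app_gammaAff]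
    rw [e1, CommRingCat.hom_comp]
    exact RingHom.finiteType_respectsIso.1 _ (asIso (inv (𝒮.toQCAlg.gammaAff (W x) (hW x)))).commRingCatIsoToRingEquiv h1
  have h3 : ∀ (W' : X.Opens), W' = W x → RingHom.FiniteType (𝒮.toQCAlg.π.app W').hom := by
    rintro _ rfl; exact h2
  rw [CommRingCat.hom_comp]
  refine RingHom.FiniteType.comp ?_ (h3 _ (W x).ι_image_top)
  exact RingHom.FiniteType.of_surjective _ (ConcreteCategory.bijective_of_isIso _).2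

include hj h0 haug hj0 hL in
theorem isProper_contr [IsProper p] (hamp : RelAmple.IsRelAmple p L) : IsProper (contrq p hj0) := by
  haveI := locallyOfFiniteType_π hj hL
  set g := contrπ p hj0 with hg
  set q := contrq p hj0 with hq
  have hqg : q ≫ g = 𝒮.toQCAlg.π ≫ p := contr_π _ _ _ _
  let h : 𝒮.toQCAlg.spec ⟶ pullback p g := pullback.lift 𝒮.toQCAlg.π q hqg.symm
  have hfst : h ≫ pullback.fst p g = 𝒮.toQCAlg.π := pullback.lift_fst _ _ _
  have hsnd : h ≫ pullback.snd p g = q := pullback.lift_snd _ _ _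
  have hcov : ∀ x : X, ∃ (W : X.Opens) (e : Γ(L, W)) (U : Y.Opens) (n : ℕ) (a : 𝒮.presheaf.obj (op (p ⁻¹ᵁ U)))
      (r : Γ(X, W)) (hW : IsAffineOpen W) (hWO : W ≤ p ⁻¹ᵁ U), x ∈ W ∧ Gen W e ∧ IsAffineOpen U ∧ 0 < n ∧ IsUnit r ∧
        (𝒮.str.app (op W)).hom r * (gen₁ hW hj e).1 ^ n = rz a W hWO ∧
        j0.appLE (𝒮.toQCAlg.π ⁻¹ᵁ (p ⁻¹ᵁ U)) (p ⁻¹ᵁ U)
          (preimage_le 𝒮.toQCAlg (𝟙 X) hj0.comp_π (p ⁻¹ᵁ U)) (toFn a) = 0 := by
    intro x
    obtain ⟨U, hU, hyU, -⟩ := exists_isAffineOpen_mem_and_subset (U := (⊤ : Y.Opens))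
      (show p x ∈ (⊤ : Y.Opens) from trivial)
    obtain ⟨n, hn, a, ha, hxa, -, hzero⟩ := exists_locus p hj h0 haug hj0 hL hamp hU (x := x) hyU
    obtain ⟨W, hW, e, hxW, hWO, he⟩ := exists_triv x hL hxa
    have hWO' : W ≤ p ⁻¹ᵁ U := hWO.trans (nv_le a n)
    obtain ⟨r, hr, -⟩ := existsUnique_coeff hW hj he (ha W hW hWO')
    refine ⟨W, e, U, n, a, r, hW, hWO', hxW, he, hU, hn, ?_, hr, hzero⟩
    exact X.toRingedSpace.isUnit_of_isUnit_germ W r fun z hz =>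
      (X.mem_basicOpen r z hz).1 ((mem_nv_iff a n hj hW hWO' he hr hz).1 (hWO hz))
  choose W e U n a r hW hWO hxW he hU hn hu hr hzero using hcov
  haveI : IsAffineHom g := (pairAlg (𝒮.toQCAlg.π ≫ p) p j0 (comp_eq p hj0.comp_π)).isAffineHom_π
  haveI : IsAffineHom (pullback.fst p g) :=
    MorphismProperty.pullback_fst (P := @IsAffineHom) p g inferInstance
  haveI : IsIntegralHom h := by
    refine IsZariskiLocalAtTarget.of_iSup_eq_top (P := @IsIntegralHom) (fun x => pullback.fst p g ⁻¹ᵁ W x)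
      (eq_top_iff.2 fun v _ => Opens.mem_iSup.2 ⟨pullback.fst p g v, hxW _⟩) fun x => ?_
    have hAf : IsAffineOpen (pullback.fst p g ⁻¹ᵁ W x) := (hW x).preimage _
    have hpre : h ⁻¹ᵁ (pullback.fst p g ⁻¹ᵁ W x) = 𝒮.toQCAlg.π ⁻¹ᵁ W x := by
      rw [← Scheme.Hom.comp_preimage, hfst]
    haveI : IsAffine (pullback.fst p g ⁻¹ᵁ W x : Scheme.{u}) := hAf
    haveI : IsAffine ((h ⁻¹ᵁ (pullback.fst p g ⁻¹ᵁ W x) : 𝒮.toQCAlg.spec.Opens) : Scheme.{u}) :=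
      hpre ▸ (hW x).preimage _
    let φ := h.appLE (pullback.fst p g ⁻¹ᵁ W x) (𝒮.toQCAlg.π ⁻¹ᵁ W x) hpre.ge
    haveI := SpecQCAlg.isIso_gammaAff 𝒮.toQCAlg (W x) (hW x)
    let ψ := φ ≫ 𝒮.toQCAlg.gammaAff (W x) (hW x)
    have hR : ∀ c, (𝒮.str.app (op (W x))).hom c ∈ ψ.hom.range := fun c => by
      refine ⟨(pullback.fst p g).app (W x) c, ?_⟩
      show 𝒮.toQCAlg.gammaAff (W x) (hW x) (((pullback.fst p g).app (W x) ≫ φ) c) = _
      rw [show (pullback.fst p g).app (W x) ≫ φ = 𝒮.toQCAlg.π.app (W x) by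
        rw [Scheme.Hom.app_eq_appLE, Scheme.Hom.appLE_comp_appLE, Scheme.Hom.app_eq_appLE]
        congr 1]
      exact ConcreteCategory.congr_hom (𝒮.toQCAlg.π_app_gammaAff (W x) (hW x)) c
    have hT : ψ.hom.IsIntegralElem (gen₁ (hW x) hj (e x)).1 := by
      have hTn : (gen₁ (hW x) hj (e x)).1 ^ n x ∈ ψ.hom.range := by
        let s := fn (𝒮.toQCAlg.π ≫ p) p j0 (comp_eq p hj0.comp_π) (hU x)
          (zpair (𝒮.toQCAlg.π ≫ p) p j0 (comp_eq p hj0.comp_π) (toFn (a x)) (hzero x))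
        have hle : pullback.fst p g ⁻¹ᵁ W x ≤ pullback.snd p g ⁻¹ᵁ (g ⁻¹ᵁ U x) := by
          rw [← Scheme.Hom.comp_preimage, ← pullback.condition, Scheme.Hom.comp_preimage]
          exact (pullback.fst p g).preimage_mono (hWO x)
        have h1 : rz (a x) (W x) (hWO x) ∈ ψ.hom.range := by
          refine ⟨(pullback.snd p g).appLE _ _ hle s, ?_⟩
          show 𝒮.toQCAlg.gammaAff (W x) (hW x) (((pullback.snd p g).appLE _ _ hle ≫ φ) s) = _
          rw [show (pullback.snd p g).appLE _ _ hle ≫ φ =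
              q.appLE _ ((𝒮.toQCAlg.π ≫ p) ⁻¹ᵁ U x) (contr_pre _ p j0 _ (U x)) ≫
                𝒮.toQCAlg.spec.presheaf.map (homOfLE (𝒮.toQCAlg.π.preimage_mono (hWO x))).op by
            rw [Scheme.Hom.appLE_comp_appLE, Scheme.Hom.appLE_map]
            congr 1]
          rw [CommRingCat.comp_apply, contr_appLE _ p j0 _ (hU x), gammaAff_fn]
          show 𝒮.toQCAlg.gammaAff (W x) (hW x)
            (𝒮.toQCAlg.spec.presheaf.map (homOfLE (𝒮.toQCAlg.π.preimage_mono (hWO x))).op (toFn (a x))) = _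
          rw [toFn_res, gammaAff_toFn]
        obtain ⟨v, hv⟩ := (hu x).exists_left_inv
        have := mul_mem (hR v) h1
        rwa [← hr x, ← mul_assoc, ← map_mul, hv, map_one, one_mul] at this
      obtain ⟨c, hc⟩ := hTn
      refine ⟨Polynomial.X ^ n x - Polynomial.C c, Polynomial.monic_X_pow_sub_C c (hn x).ne', ?_⟩
      rw [Polynomial.eval₂_sub, Polynomial.eval₂_X_pow, Polynomial.eval₂_C, hc, sub_self]
    have hint : ψ.hom.IsIntegral := fun b => by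
      obtain ⟨P, rfl⟩ := (bijective_eval₂ (hW x) hj (he x)).2 b
      rw [Polynomial.coe_eval₂RingHom, Polynomial.eval₂_eq_sum, Polynomial.sum]
      letI := ψ.hom.toAlgebra
      exact IsIntegral.sum _ fun k _ => IsIntegral.mul
        (by obtain ⟨d, hd⟩ := hR (P.coeff k); rw [← hd]; exact ψ.hom.isIntegralElem_map) (IsIntegral.pow hT k)
    have hφ : φ.hom.IsIntegral := by
      have e1 : φ = ψ ≫ inv (𝒮.toQCAlg.gammaAff (W x) (hW x)) := by simp [ψ]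
      rw [e1, CommRingCat.hom_comp]
      exact RingHom.IsIntegral.trans _ _ hint
        (RingHom.isIntegral_of_surjective _ (ConcreteCategory.bijective_of_isIso _).2)
    have hgen : ∀ (D : (pullback p g).Opens) (E : 𝒮.toQCAlg.spec.Opens) (le : E ≤ h ⁻¹ᵁ D),
        D = pullback.fst p g ⁻¹ᵁ W x → E = 𝒮.toQCAlg.π ⁻¹ᵁ W x → (h.appLE D E le).hom.IsIntegral := by
      rintro D E le rfl rfl; exact hφ
    rw [HasAffineProperty.iff_of_isAffine (P := @IsIntegralHom)]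
    refine ⟨inferInstance, ?_⟩
    show ((h ∣_ pullback.fst p g ⁻¹ᵁ W x).appTop).hom.IsIntegral
    rw [morphismRestrict_appTop, CommRingCat.hom_comp, Scheme.Hom.app_eq_appLE]
    refine RingHom.IsIntegral.trans _ _ (hgen _ _ le_rfl (Scheme.Opens.ι_image_top _) ?_)
      (RingHom.isIntegral_of_surjective _ (ConcreteCategory.bijective_of_isIso _).2)
    rw [Scheme.Opens.ι_image_top]; exact hpre
  haveI : UniversallyClosed q := by rw [← hsnd]; infer_instance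
  haveI : IsSeparated q := by
    haveI : IsSeparated (q ≫ g) := by rw [hqg]; infer_instance
    exact IsSeparated.of_comp q g
  haveI : LocallyOfFiniteType q := by
    haveI : LocallyOfFiniteType (q ≫ g) := by rw [hqg]; infer_instance
    exact locallyOfFiniteType_of_comp q g
  exact {}

include hj h0 haug hj0 hL hV0 in
theorem range_contr [IsProper p] (hamp : RelAmple.IsRelAmple p L) :
    Set.range (V0.ι ≫ contrq p hj0).base = (Set.range (contrε p hj0).base)ᶜ := by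
  refine Set.Subset.antisymm (fun c hc => ?_) fun c hc => ?_
  · exact fun hc' => Set.eq_empty_iff_forall_notMem.1
      (contraction_of_isRelAmple p hj h0 haug hj0 hL V0 hV0 hamp).2 c ⟨hc, hc'⟩
  · haveI := isProper_contr p hj h0 haug hj0 hL hamp
    obtain ⟨v, rfl⟩ := compl_range_sect_subset _ p j0 _ (contrq p hj0).isClosedMap.isClosed_range hc
    by_cases hv : v ∈ V0
    · exact ⟨⟨v, hv⟩, rfl⟩
    · rw [← SetLike.mem_coe, hV0, Set.mem_compl_iff, not_not] at hv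
      obtain ⟨x, rfl⟩ := hv
      exact absurd ⟨p x, (congrArg (fun t : X ⟶ contrScheme p hj0 => t x)
        (j_contr (𝒮.toQCAlg.π ≫ p) p j0 (comp_eq p hj0.comp_π))).symm⟩ hc

end Groth.Agent.ContrCritLib
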