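import Mathlib
import Groth.Prelude.Def_RelSpec
import Groth.Agent.RelSpecLib.Basic

/-!
# Pinching a closed section along its image

For `f : V ⟶ Y`, `p : X ⟶ Y` and `j : X ⟶ V` over `Y`, the affine `Y`-scheme `Spec (O_Y ×_{p_* O_X} f_* O_V)`.
-/

set_option autoImplicit false
set_option linter.style.haveILetI false
set_option linter.unusedSectionVars false
set_option backward.isDefEq.respectTransparency false

universe u

open CategoryTheory CategoryTheory.Limits AlgebraicGeometry TopologicalSpace Opposite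

noncomputable section

namespace Groth.Agent.ContrCritLib

theorem app_res {A B : Scheme.{u}} (h : A ⟶ B) {U U' : B.Opens} (hle : U' ≤ U) (r : Γ(B, U)) :
    h.app U' (B.presheaf.map (homOfLE hle).op r) =
      A.presheaf.map (homOfLE (h.preimage_mono hle)).op (h.app U r) :=
  ConcreteCategory.congr_hom (h.naturality (homOfLE hle).op) r

theorem preimage_basicOpen' {A B : Scheme.{u}} (h : A ⟶ B) {W : B.Opens} {W' : A.Opens} (e : W' ≤ h ⁻¹ᵁ W)
    (e' : h ⁻¹ᵁ W ≤ W') (x : Γ(B, W)) : h ⁻¹ᵁ B.basicOpen x = A.basicOpen (h.appLE W W' e x) := by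
  obtain rfl : W' = h ⁻¹ᵁ W := le_antisymm e e'
  rw [Scheme.preimage_basicOpen, Scheme.Hom.app_eq_appLE]

theorem pushforward_loc {Y T : Scheme.{u}} (h : T ⟶ Y) [QuasiCompact h] [QuasiSeparated h] {U : Y.Opens}
    (hU : IsAffineOpen U) (r : Γ(Y, U)) :
    (∀ y : Γ(T, h ⁻¹ᵁ Y.basicOpen r), ∃ (n : ℕ) (x : Γ(T, h ⁻¹ᵁ U)),
      y * T.presheaf.map (homOfLE (h.preimage_mono (Y.basicOpen_le r))).op (h.app U r) ^ n =
        T.presheaf.map (homOfLE (h.preimage_mono (Y.basicOpen_le r))).op x) ∧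
    (∀ x : Γ(T, h ⁻¹ᵁ U), T.presheaf.map (homOfLE (h.preimage_mono (Y.basicOpen_le r))).op x = 0 →
      ∃ n : ℕ, h.app U r ^ n * x = 0) := by
  letI := (T.presheaf.map (homOfLE (h.preimage_mono (Y.basicOpen_le r))).op).hom.toAlgebra
  have hl : IsLocalization.Away (h.app U r) Γ(T, h ⁻¹ᵁ Y.basicOpen r) := RelSpec.QCAlg.isQC_pushforward h U hU r
  refine ⟨fun y => ?_, fun x hx => ?_⟩
  · obtain ⟨n, x, hx⟩ := IsLocalization.Away.surj (h.app U r) y
    exact ⟨n, x, hx⟩
  · obtain ⟨⟨_, n, rfl⟩, hn⟩ := (IsLocalization.map_eq_zero_iff (Submonoid.powers (h.app U r))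
      Γ(T, h ⁻¹ᵁ Y.basicOpen r) x).1 hx
    exact ⟨n, hn⟩

variable {X V Y : Scheme.{u}} (f : V ⟶ Y) (p : X ⟶ Y) (j : X ⟶ V) (w : j ≫ f = p)
include w

theorem le_pre (U : Y.Opens) : p ⁻¹ᵁ U ≤ j ⁻¹ᵁ (f ⁻¹ᵁ U) := by subst w; exact le_rfl

/-- Pairs of a function on the base and a function upstairs with the same restriction along `j`. -/
def pairs (U : Y.Opens) : Subring (Γ(Y, U) × Γ(V, f ⁻¹ᵁ U)) :=
  RingHom.eqLocus ((p.app U).hom.comp (RingHom.fst _ _))
    ((j.appLE (f ⁻¹ᵁ U) (p ⁻¹ᵁ U) (le_pre f p j w U)).hom.comp (RingHom.snd _ _))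

theorem mem_pairs {U : Y.Opens} {z : Γ(Y, U) × Γ(V, f ⁻¹ᵁ U)} :
    z ∈ pairs f p j w U ↔ p.app U z.1 = j.appLE (f ⁻¹ᵁ U) (p ⁻¹ᵁ U) (le_pre f p j w U) z.2 := Iff.rfl

theorem j_res {U U' : Y.Opens} (hle : U' ≤ U) (φ : Γ(V, f ⁻¹ᵁ U)) :
    X.presheaf.map (homOfLE (p.preimage_mono hle)).op (j.appLE (f ⁻¹ᵁ U) (p ⁻¹ᵁ U) (le_pre f p j w U) φ) =
      j.appLE (f ⁻¹ᵁ U') (p ⁻¹ᵁ U') (le_pre f p j w U') (V.presheaf.map (homOfLE (f.preimage_mono hle)).op φ) := by
  rw [← CommRingCat.comp_apply, ← CommRingCat.comp_apply, Scheme.Hom.appLE_map, Scheme.Hom.map_appLE]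

theorem res_mem {U U' : Y.Opens} (hle : U' ≤ U) {z : Γ(Y, U) × Γ(V, f ⁻¹ᵁ U)} (hz : z ∈ pairs f p j w U) :
    (Y.presheaf.map (homOfLE hle).op z.1, V.presheaf.map (homOfLE (f.preimage_mono hle)).op z.2) ∈
      pairs f p j w U' := by
  rw [mem_pairs] at hz ⊢
  rw [app_res p hle z.1, hz, j_res f p j w hle]

theorem str_mem (U : Y.Opens) (r : Γ(Y, U)) : (r, f.app U r) ∈ pairs f p j w U := by
  rw [mem_pairs]
  subst w
  rw [Scheme.Hom.app_eq_appLE, Scheme.Hom.app_eq_appLE, ← CommRingCat.comp_apply, Scheme.Hom.appLE_comp_appLE]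

/-- The presheaf of pairs. -/
def pairPresheaf : TopCat.Presheaf CommRingCat.{u} Y.carrier where
  obj U := CommRingCat.of (pairs f p j w U.unop)
  map {U U'} i := CommRingCat.ofHom
    ((((Y.presheaf.map i).hom.comp (RingHom.fst _ _)).prod
      ((V.presheaf.map (homOfLE (f.preimage_mono i.unop.le)).op).hom.comp (RingHom.snd _ _))).comp
        (pairs f p j w U.unop).subtype |>.codRestrict _ fun z => res_mem f p j w i.unop.le z.2)
  map_id U := by
    ext z
    · show Y.presheaf.map (𝟙 U) z.1.1 = z.1.1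
      rw [CategoryTheory.Functor.map_id]; rfl
    · show V.presheaf.map (𝟙 _) z.1.2 = z.1.2
      rw [CategoryTheory.Functor.map_id]; rfl
  map_comp a b := by
    ext z
    · show Y.presheaf.map (a ≫ b) z.1.1 = Y.presheaf.map b (Y.presheaf.map a z.1.1)
      rw [Functor.map_comp]; rfl
    · show V.presheaf.map _ z.1.2 = V.presheaf.map _ (V.presheaf.map _ z.1.2)
      rw [← CommRingCat.comp_apply, ← Functor.map_comp]; rfl

theorem isSheaf_pairPresheaf : (pairPresheaf f p j w).IsSheaf := by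
  refine (TopCat.Presheaf.isSheaf_iff_isSheaf_comp (forget CommRingCat) _).mpr ?_
  rw [TopCat.Presheaf.isSheaf_iff_isSheafUniqueGluing_types]
  intro ι U sf hsf
  obtain ⟨a, ha, hau⟩ := TopCat.Sheaf.existsUnique_gluing Y.sheaf U (fun i => (sf i).1.1)
    (fun i k => congrArg (fun z => z.1.1) (hsf i k))
  let G : TopCat.Sheaf CommRingCat.{u} Y.carrier :=
    (TopCat.Sheaf.pushforward CommRingCat.{u} f.base).obj V.sheaf
  obtain ⟨b, hb, hbu⟩ := TopCat.Sheaf.existsUnique_gluing G U (fun i => (sf i).1.2)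
    (fun i k => congrArg (fun z => z.1.2) (hsf i k))
  have hmem : (a, b) ∈ pairs f p j w (iSup U) := by
    rw [mem_pairs]
    refine TopCat.Sheaf.eq_of_locally_eq'
      ((TopCat.Sheaf.pushforward CommRingCat.{u} p.base).obj X.sheaf) U (iSup U) (fun i => homOfLE (le_iSup U i))
      le_rfl _ _ fun i => ?_
    show X.presheaf.map (homOfLE (p.preimage_mono (le_iSup U i))).op (p.app _ a) =
      X.presheaf.map (homOfLE (p.preimage_mono (le_iSup U i))).op (j.appLE _ _ _ b)
    rw [← app_res p (le_iSup U i) a, j_res f p j w (le_iSup U i) b]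
    have h1 := (mem_pairs f p j w).1 (sf i).2
    rw [← show Y.presheaf.map (homOfLE (le_iSup U i)).op a = (sf i).1.1 from ha i,
      ← show V.presheaf.map (homOfLE (f.preimage_mono (le_iSup U i))).op b = (sf i).1.2 from hb i] at h1
    exact h1
  refine ⟨⟨(a, b), hmem⟩, fun i => Subtype.ext (Prod.ext (ha i) (hb i)), fun t ht => Subtype.ext (Prod.ext ?_ ?_)⟩
  · exact hau t.1.1 fun i => congrArg (fun z => z.1.1) (ht i)
  · exact hbu t.1.2 fun i => congrArg (fun z => z.1.2) (ht i)

variable [QuasiCompact f] [QuasiSeparated f] [QuasiCompact p] [QuasiSeparated p]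

/-- The quasi-coherent algebra of pairs. -/
def pairAlg : RelSpec.QCAlg Y where
  presheaf := pairPresheaf f p j w
  isSheaf := isSheaf_pairPresheaf f p j w
  str :=
    { app := fun U => CommRingCat.ofHom
        (((RingHom.id _).prod (f.app U.unop).hom).codRestrict _ fun r => str_mem f p j w U.unop r)
      naturality := fun U U' i => by
        ext r
        exact Subtype.ext (Prod.ext rfl (app_res f i.unop.le r)) }
  isQC U hU r := by
    letI := ((pairPresheaf f p j w).map (homOfLE (Y.basicOpen_le r)).op).hom.toAlgebra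
    have hloc := hU.isLocalization_basicOpen r
    have hle := Y.basicOpen_le r
    obtain ⟨hVs, hVz⟩ := pushforward_loc f hU r
    obtain ⟨-, hXz⟩ := pushforward_loc p hU r
    let ρY := (Y.presheaf.map (homOfLE hle).op).hom
    let ρV := (V.presheaf.map (homOfLE (f.preimage_mono hle)).op).hom
    refine IsLocalization.Away.mk (S := (pairPresheaf f p j w).obj (op (Y.basicOpen r))) _ ?_ ?_ ?_
    · have hu := (RingedSpace.isUnit_res_basicOpen Y.toRingedSpace r).map
        (((RingHom.id Γ(Y, Y.basicOpen r)).prod (f.app (Y.basicOpen r)).hom).codRestrict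
          (pairs f p j w (Y.basicOpen r)) fun r => str_mem f p j w _ r)
      refine (congrArg IsUnit ?_).mpr hu
      exact Subtype.ext (Prod.ext rfl (app_res f hle r).symm)
    · intro z
      obtain ⟨n, a, ha⟩ := IsLocalization.Away.surj r z.1.1
      obtain ⟨m, b, hb⟩ := hVs z.1.2
      let a' := r ^ m * a
      let b' := f.app U r ^ n * b
      have ha' : z.1.1 * ρY r ^ (n + m) = ρY a' := by
        show _ = ρY (r ^ m * a)
        rw [map_mul, map_pow, ← show z.1.1 * ρY r ^ n = ρY a from ha, pow_add]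
        ring
      have hb' : z.1.2 * ρV (f.app U r) ^ (n + m) = ρV b' := by
        show _ = ρV (f.app U r ^ n * b)
        rw [map_mul, map_pow, ← show z.1.2 * ρV (f.app U r) ^ m = ρV b from hb, pow_add]
        ring
      have hd : X.presheaf.map (homOfLE (p.preimage_mono hle)).op
          (p.app U a' - j.appLE (f ⁻¹ᵁ U) (p ⁻¹ᵁ U) (le_pre f p j w U) b') = 0 := by
        have hz := (mem_pairs f p j w).1 z.2
        have hr := (mem_pairs f p j w).1 (res_mem f p j w hle (str_mem f p j w U r))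
        have h1 : p.app _ (ρY a') = j.appLE _ _ (le_pre f p j w _) (ρV b') := by
          rw [← ha', ← hb', map_mul, map_mul, map_pow, map_pow]
          exact congrArg₂ (· * ·) hz (congrArg (· ^ (n + m)) hr)
        rw [map_sub, ← app_res p hle a', j_res f p j w hle b', sub_eq_zero]
        exact h1
      obtain ⟨l, hl⟩ := hXz _ hd
      refine ⟨l + (n + m), ⟨(r ^ l * a', f.app U r ^ l * b'), ?_⟩, ?_⟩
      · rw [mem_pairs]
        have h2 := (mem_pairs f p j w).1 (pow_mem (str_mem f p j w U r) l)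
        simp only [Prod.pow_fst, Prod.pow_snd] at h2
        show p.app U (r ^ l * a') = j.appLE (f ⁻¹ᵁ U) (p ⁻¹ᵁ U) (le_pre f p j w U) (f.app U r ^ l * b')
        refine ((map_mul _ _ _).trans ?_).trans (map_mul _ _ _).symm
        rw [← h2, map_pow]
        linear_combination hl
      · refine Subtype.ext (Prod.ext ?_ ?_)
        · show z.1.1 * ρY r ^ (l + (n + m)) = ρY (r ^ l * a')
          rw [map_mul, map_pow, ← ha', pow_add]
          ring
        · show z.1.2 * ρV (f.app U r) ^ (l + (n + m)) = ρV (f.app U r ^ l * b')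
          rw [map_mul, map_pow, ← hb', pow_add]
          ring
    · intro a b hab
      have h1 : ρY (a.1.1 - b.1.1) = 0 := by
        rw [map_sub, sub_eq_zero]; exact congrArg (fun z => z.1.1) hab
      have h2 : ρV (a.1.2 - b.1.2) = 0 := by
        rw [map_sub, sub_eq_zero]; exact congrArg (fun z => z.1.2) hab
      obtain ⟨⟨_, n, rfl⟩, hn⟩ := (IsLocalization.map_eq_zero_iff (Submonoid.powers r) Γ(Y, Y.basicOpen r)
        (a.1.1 - b.1.1)).1 h1
      obtain ⟨m, hm⟩ := hVz _ h2
      refine ⟨n + m, Subtype.ext (Prod.ext ?_ ?_)⟩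
      · show r ^ (n + m) * a.1.1 = r ^ (n + m) * b.1.1
        simp only at hn
        rw [pow_add]; linear_combination r ^ m * hn
      · show f.app U r ^ (n + m) * a.1.2 = f.app U r ^ (n + m) * b.1.2
        rw [pow_add]; linear_combination f.app U r ^ n * hm

/-- The pinched scheme. -/
abbrev pinch : Scheme.{u} := (pairAlg f p j w).spec

/-- The first projection. -/
def fstHom : (pairAlg f p j w).presheaf ⟶ (𝟙 Y : Y ⟶ Y).base _* Y.presheaf where
  app U := CommRingCat.ofHom ((RingHom.fst _ _).comp (pairs f p j w U.unop).subtype)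
  naturality _ _ _ := rfl

/-- The second projection. -/
def sndHom : (pairAlg f p j w).presheaf ⟶ f.base _* V.presheaf where
  app U := CommRingCat.ofHom ((RingHom.snd _ _).comp (pairs f p j w U.unop).subtype)
  naturality _ _ _ := rfl

theorem str_fstHom : (pairAlg f p j w).str ≫ fstHom f p j w = (𝟙 Y : Y ⟶ Y).c := rfl

theorem str_sndHom : (pairAlg f p j w).str ≫ sndHom f p j w = f.c := rfl

/-- The section. -/
def sect : Y ⟶ pinch f p j w := RelSpecLib.lift (pairAlg f p j w) (𝟙 Y) (fstHom f p j w)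

/-- The contraction. -/
def contr : V ⟶ pinch f p j w := RelSpecLib.lift (pairAlg f p j w) f (sndHom f p j w)

theorem sect_π : sect f p j w ≫ (pairAlg f p j w).π = 𝟙 Y :=
  RelSpecLib.lift_π _ _ _ (str_fstHom f p j w)

theorem contr_π : contr f p j w ≫ (pairAlg f p j w).π = f :=
  RelSpecLib.lift_π _ _ _ (str_sndHom f p j w)

theorem j_contr : j ≫ contr f p j w = p ≫ sect f p j w := by
  refine RelSpecLib.ext_over (pairAlg f p j w) p (by rw [Category.assoc, contr_π, w])
    (by rw [Category.assoc, sect_π, Category.comp_id]) ?_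
  rw [RelSpecLib.algMap_comp _ f p _ (contr_π f p j w) j w,
    RelSpecLib.algMap_comp _ (𝟙 Y) p _ (sect_π f p j w) p (Category.comp_id p)]
  unfold contr sect
  rw [RelSpecLib.algMap_lift _ _ _ (str_sndHom f p j w), RelSpecLib.algMap_lift _ _ _ (str_fstHom f p j w)]
  refine RelSpecLib.affine_hom_ext _ _ _ fun U _ => ?_
  ext z
  show (AffAlg.algHom f p j w).app (op U) z.1.2 = (AffAlg.algHom (𝟙 Y) p p (Category.comp_id p)).app (op U) z.1.1
  rw [RelSpecLib.algHom_app_gen, RelSpecLib.algHom_app_gen]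
  refine ((mem_pairs f p j w).1 z.2).symm.trans ?_
  rw [Scheme.Hom.app_eq_appLE]
  rfl

variable {U : Y.Opens} (hU : IsAffineOpen U)

theorem contr_pre (U : Y.Opens) : f ⁻¹ᵁ U ≤ contr f p j w ⁻¹ᵁ ((pairAlg f p j w).π ⁻¹ᵁ U) :=
  RelSpecLib.preimage_le _ _ (contr_π f p j w) U

theorem sect_pre (U : Y.Opens) : U ≤ sect f p j w ⁻¹ᵁ ((pairAlg f p j w).π ⁻¹ᵁ U) :=
  RelSpecLib.preimage_le _ _ (sect_π f p j w) U

/-- The function on the pinched scheme with given components. -/
def fn (z : pairs f p j w U) : Γ(pinch f p j w, (pairAlg f p j w).π ⁻¹ᵁ U) :=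
  haveI := SpecQCAlg.isIso_gammaAff (pairAlg f p j w) U hU
  inv ((pairAlg f p j w).gammaAff U hU) z

theorem gammaAff_fn (z : pairs f p j w U) : (pairAlg f p j w).gammaAff U hU (fn f p j w hU z) = z := by
  haveI := SpecQCAlg.isIso_gammaAff (pairAlg f p j w) U hU
  exact ConcreteCategory.congr_hom (IsIso.inv_hom_id ((pairAlg f p j w).gammaAff U hU)) z

theorem fn_gammaAff (x : Γ(pinch f p j w, (pairAlg f p j w).π ⁻¹ᵁ U)) :
    fn f p j w hU ((pairAlg f p j w).gammaAff U hU x) = x := by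
  haveI := SpecQCAlg.isIso_gammaAff (pairAlg f p j w) U hU
  exact ConcreteCategory.congr_hom (IsIso.hom_inv_id ((pairAlg f p j w).gammaAff U hU)) x

include hU in
theorem contr_appLE (x : Γ(pinch f p j w, (pairAlg f p j w).π ⁻¹ᵁ U)) :
    (contr f p j w).appLE _ (f ⁻¹ᵁ U) (contr_pre f p j w U) x =
      ((pairAlg f p j w).gammaAff U hU x : pairs f p j w U).1.2 := by
  rw [← RelSpecLib.gammaAff_algMap _ _ _ (contr_π f p j w) U hU, CommRingCat.comp_apply]
  unfold contr
  rw [RelSpecLib.algMap_lift _ _ _ (str_sndHom f p j w)]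
  rfl

include hU in
theorem sect_appLE (x : Γ(pinch f p j w, (pairAlg f p j w).π ⁻¹ᵁ U)) :
    (sect f p j w).appLE _ U (sect_pre f p j w U) x =
      ((pairAlg f p j w).gammaAff U hU x : pairs f p j w U).1.1 := by
  refine (ConcreteCategory.congr_hom
    (RelSpecLib.gammaAff_algMap _ _ _ (sect_π f p j w) U hU).symm x).trans ?_
  rw [CommRingCat.comp_apply]
  unfold sect
  rw [RelSpecLib.algMap_lift _ _ _ (str_fstHom f p j w)]
  rfl

theorem contr_preimage_le (U : Y.Opens) : contr f p j w ⁻¹ᵁ ((pairAlg f p j w).π ⁻¹ᵁ U) ≤ f ⁻¹ᵁ U := by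
  rw [← Scheme.Hom.comp_preimage, contr_π]

theorem sect_preimage_le (U : Y.Opens) : sect f p j w ⁻¹ᵁ ((pairAlg f p j w).π ⁻¹ᵁ U) ≤ U := by
  rw [← Scheme.Hom.comp_preimage, sect_π, Scheme.Hom.id_preimage]

include hU in
theorem contr_preimage_basicOpen (x : Γ(pinch f p j w, (pairAlg f p j w).π ⁻¹ᵁ U)) :
    contr f p j w ⁻¹ᵁ (pinch f p j w).basicOpen x =
      V.basicOpen ((pairAlg f p j w).gammaAff U hU x : pairs f p j w U).1.2 := by
  rw [preimage_basicOpen' (contr f p j w) (contr_pre f p j w U) (contr_preimage_le f p j w U) x,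
    contr_appLE f p j w hU]

include hU in
theorem sect_preimage_basicOpen (x : Γ(pinch f p j w, (pairAlg f p j w).π ⁻¹ᵁ U)) :
    sect f p j w ⁻¹ᵁ (pinch f p j w).basicOpen x =
      Y.basicOpen ((pairAlg f p j w).gammaAff U hU x : pairs f p j w U).1.1 := by
  rw [preimage_basicOpen' (sect f p j w) (sect_pre f p j w U) (sect_preimage_le f p j w U) x,
    sect_appLE f p j w hU]

variable (φ : Γ(V, f ⁻¹ᵁ U)) (hφ : j.appLE (f ⁻¹ᵁ U) (p ⁻¹ᵁ U) (le_pre f p j w U) φ = 0)

/-- The pair of a function killed by `j`. -/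
def zpair : pairs f p j w U := ⟨(0, φ), by rw [mem_pairs, map_zero]; exact hφ.symm⟩

/-- Its locus. -/
def locus : (pinch f p j w).Opens := (pinch f p j w).basicOpen (fn f p j w hU (zpair f p j w φ hφ))

theorem contr_preimage_locus : contr f p j w ⁻¹ᵁ locus f p j w hU φ hφ = V.basicOpen φ := by
  rw [locus, contr_preimage_basicOpen f p j w hU, gammaAff_fn]
  rfl

theorem sect_preimage_locus : sect f p j w ⁻¹ᵁ locus f p j w hU φ hφ = ⊥ := by
  rw [locus, sect_preimage_basicOpen f p j w hU, gammaAff_fn]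
  exact Y.basicOpen_zero U

theorem isAffineOpen_locus : IsAffineOpen (locus f p j w hU φ hφ) :=
  (hU.preimage (pairAlg f p j w).π).basicOpen _

theorem bijective_locus :
    Function.Bijective ((contr f p j w).appLE (locus f p j w hU φ hφ) (V.basicOpen φ)
      (contr_preimage_locus f p j w hU φ hφ).ge) := by
  let s := fn f p j w hU (zpair f p j w φ hφ)
  let g := (pairAlg f p j w).π
  let ρC := ((pinch f p j w).presheaf.map (homOfLE ((pinch f p j w).basicOpen_le s)).op).hom
  let ρV := (V.presheaf.map (homOfLE (V.basicOpen_le φ)).op).hom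
  let Φ : Γ(pinch f p j w, (pinch f p j w).basicOpen s) →+* Γ(V, V.basicOpen φ) :=
    ((contr f p j w).appLE ((pinch f p j w).basicOpen s) (V.basicOpen φ)
      (contr_preimage_locus f p j w hU φ hφ).ge).hom
  have hΦ : ∀ x, Φ (ρC x) = ρV ((pairAlg f p j w).gammaAff U hU x : pairs f p j w U).1.2 := fun x => by
    rw [← contr_appLE f p j w hU]
    show ((pinch f p j w).presheaf.map (homOfLE ((pinch f p j w).basicOpen_le s)).op ≫
        (contr f p j w).appLE ((pinch f p j w).basicOpen s) (V.basicOpen φ)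
          (contr_preimage_locus f p j w hU φ hφ).ge) x =
      ((contr f p j w).appLE _ _ (contr_pre f p j w U) ≫ V.presheaf.map (homOfLE (V.basicOpen_le φ)).op) x
    rw [Scheme.Hom.map_appLE, Scheme.Hom.appLE_map]
  suffices h : Function.Bijective Φ from h
  haveI := (hU.preimage g).isLocalization_basicOpen s
  letI : Algebra Γ(V, f ⁻¹ᵁ U) Γ(V, V.basicOpen φ) := ρV.toAlgebra
  haveI hlV : IsLocalization.Away φ Γ(V, V.basicOpen φ) :=
    isLocalization_basicOpen_of_qcqs (f.isCompact_preimage hU.isCompact)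
      (f.isQuasiSeparated_preimage hU.isQuasiSeparated) φ
  have hs : ((pairAlg f p j w).gammaAff U hU s : pairs f p j w U).1.2 = φ := by
    show ((pairAlg f p j w).gammaAff U hU (fn f p j w hU _) : pairs f p j w U).1.2 = _
    rw [gammaAff_fn]; rfl
  have hu : IsUnit (ρC s) := RingedSpace.isUnit_res_basicOpen _ s
  constructor
  · intro a b hab
    obtain ⟨n, x, hx⟩ := IsLocalization.Away.surj (S := Γ(pinch f p j w, (pinch f p j w).basicOpen s)) s (a - b)
    change (a - b) * ρC s ^ n = ρC x at hx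
    have h0 : ρV ((pairAlg f p j w).gammaAff U hU x : pairs f p j w U).1.2 = 0 := by
      rw [← hΦ, ← hx, map_mul, map_sub, show Φ a = Φ b from hab, sub_self, zero_mul]
    obtain ⟨⟨_, k, rfl⟩, hk⟩ := (IsLocalization.map_eq_zero_iff (Submonoid.powers φ) Γ(V, V.basicOpen φ) _).1 h0
    have hsx : s ^ (k + 1) * x = 0 := by
      haveI := SpecQCAlg.isIso_gammaAff (pairAlg f p j w) U hU
      refine (ConcreteCategory.bijective_of_isIso ((pairAlg f p j w).gammaAff U hU)).1 ?_
      rw [map_mul, map_pow, map_zero]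
      show ((pairAlg f p j w).gammaAff U hU (fn f p j w hU _) : pairs f p j w U) ^ (k + 1) * _ = 0
      rw [gammaAff_fn]
      refine Subtype.ext (Prod.ext ?_ ?_)
      · show (0 : Γ(Y, U)) ^ (k + 1) * _ = 0
        rw [zero_pow (Nat.succ_ne_zero k), zero_mul]
      · show φ ^ (k + 1) * _ = 0
        rw [pow_succ', mul_assoc]
        simp only at hk
        rw [hk, mul_zero]
    have h1 := congrArg ρC hsx
    rw [map_mul, map_pow, map_zero, ← hx] at h1
    have h2 := (IsUnit.mul_right_eq_zero (hu.pow (k + 1))).1 h1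
    exact sub_eq_zero.1 ((IsUnit.mul_left_eq_zero (hu.pow n)).1 h2)
  · intro y
    obtain ⟨n, x, hx⟩ := IsLocalization.Away.surj φ y
    change y * ρV φ ^ n = ρV x at hx
    have hm : (0, φ * x) ∈ pairs f p j w U := by
      rw [mem_pairs, map_zero, map_mul, hφ, zero_mul]
    obtain ⟨v, hv⟩ := (hu.pow (n + 1)).exists_left_inv
    refine ⟨v * ρC (fn f p j w hU ⟨_, hm⟩), ?_⟩
    show Φ (v * ρC _) = y
    have hv' : Φ v * ρV φ ^ (n + 1) = 1 := by
      have hs' : Φ (ρC s) = ρV φ := (hΦ s).trans (congrArg ρV hs)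
      rw [← hs', ← map_pow, ← map_mul, hv, map_one]
    rw [map_mul, hΦ, gammaAff_fn]
    show Φ v * ρV (φ * x) = y
    rw [map_mul, ← hx]
    linear_combination y * hv'

theorem isIso_morphismRestrict_locus (ha : IsAffineOpen (V.basicOpen φ)) :
    IsIso (contr f p j w ∣_ locus f p j w hU φ hφ) := by
  set q := contr f p j w with hq
  set D := locus f p j w hU φ hφ with hD
  have hpre : q ⁻¹ᵁ D = V.basicOpen φ := contr_preimage_locus f p j w hU φ hφ
  haveI : IsAffine (D : Scheme.{u}) := isAffineOpen_locus f p j w hU φ hφ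
  haveI : IsAffine ((q ⁻¹ᵁ D : V.Opens) : Scheme.{u}) := hpre ▸ ha
  have hb : ∀ (W : V.Opens) (e : W = q ⁻¹ᵁ D), Function.Bijective (q.appLE D W e.le) →
      Function.Bijective (q.app D) := by
    rintro W rfl h
    rwa [Scheme.Hom.app_eq_appLE]
  have h1 := hb _ hpre.symm (bijective_locus f p j w hU φ hφ)
  have h2 : IsIso (q.app D) := (ConcreteCategory.isIso_iff_bijective _).2 h1
  have h3 : ∀ W : (pinch f p j w).Opens, W = D → IsIso (q.app W) := by
    rintro W rfl; exact h2
  haveI := h3 _ D.ι_image_top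
  haveI : IsIso (q ∣_ D).appTop := by
    rw [morphismRestrict_appTop]
    infer_instance
  rw [← MorphismProperty.isomorphisms.iff (q ∣_ D),
    (MorphismProperty.isomorphisms Scheme.{u}).arrow_mk_iso_iff (arrowIsoSpecΓOfIsAffine (q ∣_ D))]
  exact (inferInstance : IsIso (Spec.map (q ∣_ D).appTop))

/-- When enough functions killed by `j` have affine loci, the contraction is an open immersion off `j`. -/
theorem isOpenImmersion_contr (V0 : V.Opens) (hV0 : (V0 : Set V) = (Set.range j.base)ᶜ)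
    (h : ∀ v ∈ V0, ∃ (U : Y.Opens) (_ : IsAffineOpen U) (φ : Γ(V, f ⁻¹ᵁ U)),
      j.appLE (f ⁻¹ᵁ U) (p ⁻¹ᵁ U) (le_pre f p j w U) φ = 0 ∧ v ∈ V.basicOpen φ ∧ IsAffineOpen (V.basicOpen φ)) :
    IsOpenImmersion (V0.ι ≫ contr f p j w) ∧
      Set.range (V0.ι ≫ contr f p j w).base ∩ Set.range (sect f p j w).base = ∅ := by
  choose U hU φ hφ hv ha using h
  set q := contr f p j w with hq
  let D : V0 → (pinch f p j w).Opens := fun v => locus f p j w (hU v.1 v.2) (φ v.1 v.2) (hφ v.1 v.2)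
  have hpre : q ⁻¹ᵁ iSup D = V0 := by
    refine le_antisymm (fun x hx => ?_) fun x hx => ?_
    · obtain ⟨v, hxv⟩ := Opens.mem_iSup.1 (show q x ∈ iSup D from hx)
      have hxφ : x ∈ V.basicOpen (φ v.1 v.2) := (contr_preimage_locus f p j w _ _ _).le hxv
      rw [← SetLike.mem_coe, hV0]
      rintro ⟨a, rfl⟩
      have h2 : a ∈ j ⁻¹ᵁ V.basicOpen (φ v.1 v.2) := hxφ
      rw [preimage_basicOpen' j (le_pre f p j w _) (by subst w; exact le_rfl)] at h2
      rw [hφ, X.basicOpen_zero] at h2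
      exact h2
    · show q x ∈ iSup D
      exact Opens.mem_iSup.2 ⟨⟨x, hx⟩, (contr_preimage_locus f p j w _ _ _).ge (hv x hx)⟩
  have hiso : IsIso (q ∣_ iSup D) := by
    let e : ∀ v, ((iSup D).ι ''ᵁ ((iSup D).ι ⁻¹ᵁ D v)) = D v := fun v => by
      rw [Scheme.Hom.image_preimage_eq_opensRange_inf, Scheme.Opens.opensRange_ι]
      exact inf_eq_right.2 (le_iSup D v)
    refine IsZariskiLocalAtTarget.of_iSup_eq_top (P := MorphismProperty.isomorphisms Scheme.{u})
      (fun v => (iSup D).ι ⁻¹ᵁ D v) (eq_top_iff.2 fun x _ => ?_) fun v => ?_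
    · obtain ⟨v, hxv⟩ := Opens.mem_iSup.1 x.2
      exact Opens.mem_iSup.2 ⟨v, hxv⟩
    · refine ((MorphismProperty.isomorphisms Scheme.{u}).arrow_mk_iso_iff
        (morphismRestrictRestrict q (iSup D) ((iSup D).ι ⁻¹ᵁ D v) ≪≫ morphismRestrictEq q (e v))).2 ?_
      exact isIso_morphismRestrict_locus f p j w _ _ _ (ha v.1 v.2)
  have hfac : V0.ι ≫ q = (V.isoOfEq hpre.symm).hom ≫ (q ∣_ iSup D) ≫ (iSup D).ι := by
    rw [morphismRestrict_ι, Scheme.isoOfEq_hom_ι_assoc]
  refine ⟨hfac ▸ inferInstance, Set.eq_empty_iff_forall_notMem.2 ?_⟩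
  rintro c ⟨⟨x, rfl⟩, y, hy⟩
  have hx : q (V0.ι x) ∈ iSup D := hpre.ge x.2
  obtain ⟨v, hxv⟩ := Opens.mem_iSup.1 hx
  have hyD : y ∈ sect f p j w ⁻¹ᵁ D v := by
    show sect f p j w y ∈ D v
    rw [hy]
    exact hxv
  rw [sect_preimage_locus] at hyD
  exact hyD

/-- A universally closed contraction covers everything outside the section. -/
theorem compl_range_sect_subset (hc : IsClosed (Set.range (contr f p j w).base)) :
    (Set.range (sect f p j w).base)ᶜ ⊆ Set.range (contr f p j w).base := by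
  intro c hcs
  by_contra hcq
  set g := (pairAlg f p j w).π with hg
  set q := contr f p j w with hq
  obtain ⟨U, hU, hcU, -⟩ := exists_isAffineOpen_mem_and_subset (U := (⊤ : Y.Opens)) (show g c ∈ (⊤ : Y.Opens) from trivial)
  have hA := hU.preimage g
  have hsc : IsClosed (Set.range (sect f p j w).base) := by
    haveI : IsClosedImmersion (sect f p j w) := by
      haveI : IsClosedImmersion (sect f p j w ≫ g) := by rw [sect_π]; infer_instance
      exact IsClosedImmersion.of_comp _ g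
    exact (sect f p j w).isClosedEmbedding.isClosed_range
  let O : (pinch f p j w).Opens := ⟨(Set.range (sect f p j w).base)ᶜ ∩ (Set.range q.base)ᶜ,
    hsc.isOpen_compl.inter hc.isOpen_compl⟩
  obtain ⟨t, ht, hct⟩ := hA.exists_basicOpen_le (V := O) ⟨c, hcs, hcq⟩ hcU
  set z : pairs f p j w U := (pairAlg f p j w).gammaAff U hU t with hz
  have h1 : IsNilpotent z.1.1 := by
    refine (Y.isNilpotent_iff_basicOpen_eq_bot_of_isCompact hU.isCompact _).2 ?_
    rw [hz, ← sect_preimage_basicOpen f p j w hU t]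
    exact eq_bot_iff.2 fun y hy => (ht hy).1 ⟨y, rfl⟩
  have h2 : IsNilpotent z.1.2 := by
    refine (V.isNilpotent_iff_basicOpen_eq_bot_of_isCompact (f.isCompact_preimage hU.isCompact) _).2 ?_
    rw [hz, ← contr_preimage_basicOpen f p j w hU t]
    exact eq_bot_iff.2 fun y hy => (ht hy).2 ⟨y, rfl⟩
  obtain ⟨n, hn⟩ := h1
  obtain ⟨m, hm⟩ := h2
  haveI := SpecQCAlg.isIso_gammaAff (pairAlg f p j w) U hU
  have h3 : IsNilpotent t := by
    refine ⟨n + m, (ConcreteCategory.bijective_of_isIso ((pairAlg f p j w).gammaAff U hU)).1 ?_⟩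
    rw [map_pow, map_zero]
    show z ^ (n + m) = 0
    refine Subtype.ext (Prod.ext ?_ ?_)
    · show z.1.1 ^ (n + m) = 0
      rw [pow_add, hn, zero_mul]
    · show z.1.2 ^ (n + m) = 0
      rw [pow_add, hm, mul_zero]
  exact ((pinch f p j w).basicOpen_eq_bot_of_isNilpotent _ t h3).le hct

end Groth.Agent.ContrCritLib
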